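import Cfsg.Agent.Lib.J4Type.Eleven.CharFacts
import Cfsg.Agent.Lib.J4Type.BigPrimes.Main

/-!
The sums of the values of the seven characters over a self-centralising subgroup of prime order.
-/

set_option autoImplicit false
set_option linter.unusedSectionVars false
set_option linter.style.haveILetI false

universe u

namespace CfsgLib.J4Type.Eleven

open Subgroup CfsgLib.Char
open scoped ComplexConjugate

variable {G : Type u} [Group G] [Fintype G]

open scoped Classical in
/-- The nontrivial elements of a cyclic subgroup. -/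
noncomputable def nontriv (g : G) : Finset G :=
  (Finset.univ.filter fun h => h ∈ zpowers g).erase 1

theorem mem_nontriv {g h : G} : h ∈ nontriv g ↔ h ≠ 1 ∧ h ∈ zpowers g := by
  classical
  simp [nontriv]

theorem card_nontriv (g : G) : (nontriv g).card = orderOf g - 1 := by
  classical
  rw [nontriv, Finset.card_erase_of_mem (Finset.mem_filter.2 ⟨Finset.mem_univ _, one_mem _⟩),
    ← Fintype.card_subtype, ← Nat.card_eq_fintype_card]
  exact congrArg (· - 1) (Nat.card_zpowers g)

theorem sum_nontriv (g : G) (f : G → ℂ) [Fintype (zpowers g)] :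
    f 1 + ∑ h ∈ nontriv g, f h = ∑ x : zpowers g, f x := by
  classical
  rw [nontriv]
  refine (Finset.add_sum_erase _ f (Finset.mem_filter.2 ⟨Finset.mem_univ _, one_mem _⟩)).trans ?_
  exact Finset.sum_subtype _ (fun x => by simp) f

theorem zpowers_eq_of_prime {g h : G} (hp : (orderOf g).Prime) (hh : h ∈ nontriv g) :
    zpowers h = zpowers g := by
  obtain ⟨h1, h2⟩ := mem_nontriv.1 hh
  haveI := Fact.mk hp
  have ho : orderOf h = orderOf g := by
    refine ((Nat.dvd_prime hp).1 ?_).resolve_left fun e => h1 (orderOf_eq_one_iff.1 e)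
    rw [← Nat.card_zpowers g]
    exact Subgroup.orderOf_dvd_natCard _ h2
  exact eq_of_le_of_card_ge (zpowers_le.2 h2) (by rw [Nat.card_zpowers, Nat.card_zpowers, ho])

theorem cent_eq_of_zpowers {g h : G} (e : zpowers h = zpowers g) :
    centralizer ({h} : Set G) = centralizer ({g} : Set G) := by
  rw [← Subgroup.centralizer_closure {h}, ← Subgroup.centralizer_closure {g},
    ← Subgroup.zpowers_eq_closure, ← Subgroup.zpowers_eq_closure, e]

open scoped Classical in
/-- The conjugates inside the subgroup of one of its nontrivial elements. -/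
theorem card_fibre {u : G} {p e : ℕ} (hp : p.Prime) (ho : orderOf u = p)
    (hC : Nat.card (centralizer ({u} : Set G)) = p)
    (hN : Nat.card (normalizer (zpowers u : Set G)) = p * e) {g : G} (hg : g ∈ nontriv u) :
    ((nontriv u).filter fun h => ConjClasses.mk h = ConjClasses.mk g).card = e := by
  have hzg := zpowers_eq_of_prime (ho ▸ hp) hg
  set N := normalizer (zpowers u : Set G) with hNdef
  let f : N → G := fun n => (n : G) * g * (n : G)⁻¹
  have himg : Finset.univ.image f =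
      (nontriv u).filter fun h => ConjClasses.mk h = ConjClasses.mk g := by
    ext h
    simp only [Finset.mem_image, Finset.mem_univ, true_and, Finset.mem_filter,
      ConjClasses.mk_eq_mk_iff_isConj]
    constructor
    · rintro ⟨n, rfl⟩
      refine ⟨mem_nontriv.2 ⟨fun h => (mem_nontriv.1 hg).1 ?_, ?_⟩, (show IsConj g (f n) from isConj_iff.2 ⟨n, rfl⟩).symm⟩
      · calc g = (n : G)⁻¹ * f n * n := by simp only [f]; group
          _ = 1 := by rw [h]; group
      · exact (mem_normalizer_iff.1 n.2 g).1 (mem_nontriv.1 hg).2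
    · rintro ⟨hh, hconj⟩
      obtain ⟨c, hc⟩ := isConj_iff.1 hconj.symm
      refine ⟨⟨c, mem_normalizer_iff_map_conj_eq.2 ?_⟩, hc⟩
      rw [← hzg, MonoidHom.map_zpowers]
      change zpowers (c * g * c⁻¹) = zpowers g
      rw [hc, zpowers_eq_of_prime (ho ▸ hp) hh, hzg]
  have hfib : ∀ h ∈ Finset.univ.image f, (Finset.univ.filter fun n => f n = h).card = p := by
    intro h hh
    obtain ⟨n₀, -, rfl⟩ := Finset.mem_image.1 hh
    rw [← hC, ← cent_eq_of_zpowers hzg, Nat.card_eq_fintype_card, Fintype.card, eq_comm]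
    have hle : centralizer ({g} : Set G) ≤ N := by
      rw [cent_eq_of_zpowers hzg, hNdef, ← Subgroup.centralizer_closure {u},
        ← Subgroup.zpowers_eq_closure]
      exact Subgroup.centralizer_le_normalizer _
    refine Finset.card_bij (fun c _ => n₀ * ⟨c.1, hle c.2⟩) ?_ ?_ ?_
    · intro c _
      refine Finset.mem_filter.2 ⟨Finset.mem_univ _, ?_⟩
      have hcg : (c : G) * g = g * c := mem_centralizer_singleton_iff.1 c.2
      simp only [f, Subgroup.coe_mul, mul_inv_rev]
      rw [show (n₀ : G) * c * g * ((c : G)⁻¹ * (n₀ : G)⁻¹) = n₀ * (c * g * (c : G)⁻¹) * (n₀ : G)⁻¹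
        by group, hcg, mul_inv_cancel_right]
    · intro a _ b _ h
      exact Subtype.ext (congrArg (fun n : N => (n : G)) (mul_left_cancel h))
    · intro n hn
      have hn' : (n : G) * g * (n : G)⁻¹ = n₀ * g * (n₀ : G)⁻¹ := (Finset.mem_filter.1 hn).2
      refine ⟨⟨(n₀ : G)⁻¹ * n, mem_centralizer_singleton_iff.2 ?_⟩, Finset.mem_univ _,
        Subtype.ext (mul_inv_cancel_left _ _)⟩
      calc (n₀ : G)⁻¹ * n * g = (n₀ : G)⁻¹ * ((n : G) * g * (n : G)⁻¹) * n := by group
        _ = g * ((n₀ : G)⁻¹ * n) := by rw [hn']; group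
  have hcount := Finset.card_eq_sum_card_image f (Finset.univ : Finset N)
  rw [Finset.sum_congr rfl hfib, Finset.sum_const, smul_eq_mul, Finset.card_univ,
    ← Nat.card_eq_fintype_card, hN, himg, mul_comm p] at hcount
  exact (Nat.eq_of_mul_eq_mul_right hp.pos hcount).symm

/-- The sum over the nontrivial elements of a self-centralising subgroup of prime order. -/
theorem prime_sum {u : G} {p e : ℕ} (hp : p.Prime) (ho : orderOf u = p)
    (hC : Nat.card (centralizer ({u} : Set G)) = p)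
    (hN : Nat.card (normalizer (zpowers u : Set G)) = p * e) (he : 0 < e)
    (χ : Cfsg.IrrCharacter G) {d : ℕ} (hd : (χ : G → ℂ) 1 = d) :
    ∃ a : ℤ, ∑ g ∈ nontriv u, (χ : G → ℂ) g = ((e * a : ℤ) : ℂ) ∧ (p : ℤ) ∣ e * a + d := by
  classical
  set U := zpowers u with hU
  have := Fintype.ofFinite U
  obtain ⟨m, hm⟩ := classInner_isGeneralized_int
    (isGeneralized_of_isCharacter (isCharacter_restrict (irr_isCharacter χ.2) U))
    (isGeneralized_of_isCharacter (isCharacter_one (G := U)))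
  have hUc : Nat.card U = p := by rw [hU, Nat.card_zpowers, ho]
  have hsum : (χ : G → ℂ) 1 + ∑ g ∈ nontriv u, (χ : G → ℂ) g = ((p * m : ℤ) : ℂ) := by
    rw [classInner_def, hUc] at hm
    simp only [map_one, mul_one] at hm
    rw [inv_mul_eq_iff_eq_mul₀ (by exact_mod_cast hp.ne_zero)] at hm
    push_cast
    rw [← hm]
    exact sum_nontriv u _
  set A : ℂ := ∑ O ∈ (nontriv u).image ConjClasses.mk, (χ : G → ℂ) (Quotient.out O) with hA
  have hS : ∑ g ∈ nontriv u, (χ : G → ℂ) g = (e : ℂ) * A := by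
    rw [hA, Finset.mul_sum]
    refine (Finset.sum_image' (fun g => (χ : G → ℂ) g) fun g hg => ?_).symm
    have hout : ∀ h : G, ConjClasses.mk h = ConjClasses.mk g →
        (χ : G → ℂ) h = (χ : G → ℂ) (Quotient.out (ConjClasses.mk g)) := fun h hh =>
      isClassFunction_isConj (irr_isClassFunction χ.2)
        (ConjClasses.mk_eq_mk_iff_isConj.1 (hh.trans (Quotient.out_eq _).symm))
    rw [Finset.sum_congr rfl fun h hh => hout h (Finset.mem_filter.1 hh).2, Finset.sum_const,
      card_fibre hp ho hC hN hg, nsmul_eq_mul]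
  have hAint : IsIntegral ℤ A := IsIntegral.sum _ fun O _ => by
    obtain ⟨n, ρ, -, hρ⟩ := χ.2
    rw [← hρ]
    exact char_isIntegral ρ _
  have hAq : A = (((p * m - d : ℤ) : ℚ) / e : ℚ) := by
    rw [hd, hS] at hsum
    push_cast at hsum ⊢
    rw [eq_div_iff (by exact_mod_cast he.ne')]
    linear_combination hsum
  obtain ⟨a, ha⟩ := exists_int_of_isIntegral_rat (hAq ▸ hAint)
  refine ⟨a, ?_, ⟨m, ?_⟩⟩
  · rw [hS, hAq, ha]; push_cast; rfl
  · rw [div_eq_iff (by exact_mod_cast he.ne')] at ha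
    have : (p * m - d : ℤ) = a * e := by exact_mod_cast ha
    linarith

namespace AbData

variable {z t : G} {D : AbData z t}

/-- The congruences and the bound at a self-centralising subgroup of prime order. -/
theorem Fam.prime_data (F : Fam D) {u : G} {p e : ℕ} (hp : p.Prime) (hp11 : p ≠ 11)
    (ho : orderOf u = p) (hC : Nat.card (centralizer ({u} : Set G)) = p)
    (hN : Nat.card (normalizer (zpowers u : Set G)) = p * e) (he : 0 < e) :
    ∃ a b c : ℤ, (p : ℤ) ∣ e * a + F.d ∧ (p : ℤ) ∣ e * b + F.x ∧ (p : ℤ) ∣ e * c + F.y ∧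
      (e : ℤ) ^ 2 * (5 * a ^ 2 + b ^ 2 + c ^ 2) ≤ ((p : ℤ) - 1) ^ 3 := by
  classical
  have := Fintype.ofFinite (Cfsg.IrrCharacter G)
  obtain ⟨a, ha, ha'⟩ := prime_sum hp ho hC hN he (F.μ 0) (F.deg_μ 0)
  obtain ⟨b, hb, hb'⟩ := prime_sum hp ho hC hN he F.X F.deg_X
  obtain ⟨c, hc, hc'⟩ := prime_sum hp ho hC hN he F.Y F.deg_Y
  refine ⟨a, b, c, ha', hb', hc', ?_⟩
  set s := nontriv u with hs
  have hcard : s.card = p - 1 := by rw [hs, card_nontriv, ho]
  have hcs : ∀ χ : Cfsg.IrrCharacter G, ‖∑ g ∈ s, (χ : G → ℂ) g‖ ^ 2 ≤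
      (s.card : ℝ) * ∑ g ∈ s, ‖(χ : G → ℂ) g‖ ^ 2 := fun χ =>
    le_trans (pow_le_pow_left₀ (norm_nonneg _) (norm_sum_le _ _) 2) sq_sum_le_card_mul_sum_sq
  have hcol : ∀ g ∈ s, ∑ χ : Cfsg.IrrCharacter G, ‖(χ : G → ℂ) g‖ ^ 2 = (p : ℝ) := by
    intro g hg
    have h := column_orthogonality g g
    rw [if_pos (IsConj.refl g), cent_eq_of_zpowers (zpowers_eq_of_prime (ho ▸ hp) hg), hC] at h
    simp only [Complex.mul_conj'] at h
    exact_mod_cast h
  have htot : ∑ χ : Cfsg.IrrCharacter G, ‖∑ g ∈ s, (χ : G → ℂ) g‖ ^ 2 ≤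
      (s.card : ℝ) * (s.card * p) := by
    refine (Finset.sum_le_sum fun χ _ => hcs χ).trans (le_of_eq ?_)
    rw [← Finset.mul_sum, Finset.sum_comm, Finset.sum_congr rfl hcol, Finset.sum_const,
      nsmul_eq_mul]
  have hμ : ∀ i, ∑ g ∈ s, (F.μ i : G → ℂ) g = ∑ g ∈ s, (F.μ 0 : G → ℂ) g := fun i => by
    refine Finset.sum_congr rfl fun g hg => F.vals_eq i ?_
    rw [show orderOf g = p by
      rw [← Nat.card_zpowers, zpowers_eq_of_prime (ho ▸ hp) hg, Nat.card_zpowers, ho]]
    exact fun h => hp11 ((Nat.prime_dvd_prime_iff_eq (by norm_num) hp).1 h).symm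
  have h := (F.sum_le (fun χ => ‖∑ g ∈ s, (χ : G → ℂ) g‖ ^ 2) fun χ => by positivity).trans htot
  have n : ∀ k : ℤ, ‖(k : ℂ)‖ ^ 2 = ((k : ℝ)) ^ 2 := fun k => by
    rw [Complex.norm_intCast, sq_abs]
  simp only [hμ, ha, hb, hc, n, oneChar_apply, Finset.sum_const, Finset.card_univ,
    Fintype.card_fin, nsmul_eq_mul, mul_one, Complex.norm_natCast, hcard] at h
  have hp1 : ((p - 1 : ℕ) : ℝ) = (p : ℝ) - 1 := by
    rw [Nat.cast_sub hp.one_le]; simp
  rw [hp1] at h
  push_cast at h
  have h' : (((e : ℤ) ^ 2 * (5 * a ^ 2 + b ^ 2 + c ^ 2) : ℤ) : ℝ) ≤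
      ((((p : ℤ) - 1) ^ 3 : ℤ) : ℝ) := by
    push_cast
    nlinarith
  exact_mod_cast h'

end AbData

/-- Generators of the self-centralising subgroups of order `23`, `29` and `37`. -/
theorem prime_gen (F : BigPrimes.Facts G) {p e : ℕ}
    (hp : (p, e) ∈ [(23, 22), (29, 28), (37, 12)]) :
    ∃ u : G, orderOf u = p ∧ Nat.card (centralizer ({u} : Set G)) = p ∧
      Nat.card (normalizer (zpowers u : Set G)) = p * e := by
  have hb : p ∈ BigPrimes.bigList ∧ (p, e) ∈ [(23, 22), (29, 28), (31, 10), (37, 12), (43, 14)] := by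
    simp only [List.mem_cons, List.not_mem_nil, or_false, Prod.mk.injEq] at hp ⊢
    rcases hp with h | h | h <;> simp [h, BigPrimes.bigList]
  haveI : Fact p.Prime := ⟨BigPrimes.prime_of_big hb.1⟩
  obtain ⟨P⟩ := (inferInstance : Nonempty (Sylow p G))
  have hP : Nat.card (P : Subgroup G) = p := by
    rw [P.card_eq_multiplicity, BigPrimes.factorization_big F hb.1, pow_one]
  obtain ⟨hC, hN⟩ := BigPrimes.main F hb.2 P
  obtain ⟨u, hu, hPu⟩ := BigPrimes.exists_gen_of_prime (Fact.out : p.Prime) hP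
  refine ⟨u, hu, ?_, hPu ▸ hN⟩
  rw [← BigPrimes.cent_eq_of_zpowers hPu, hC, hP]

end CfsgLib.J4Type.Eleven
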