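import Cfsg.Agent.Lib.J4Type.Eleven.CharPairs
import Cfsg.Agent.Lib.J4Type.Eleven.CharPrimes

/-!
The numbers attached to the abelian case.
-/

set_option autoImplicit false
set_option linter.unusedSectionVars false

universe u

namespace CfsgLib.J4Type.Eleven

open Subgroup CfsgLib.Char

/-- The form of the linear relations forces the quadratic form to be a square. -/
theorem quad_eq {e sx sy a b c d x y : ℤ} (he : e = 1 ∨ e = -1) (hsx : sx = 1 ∨ sx = -1)
    (hsy : sy = 1 ∨ sy = -1) (hl : e * a + sx * b + sy * c = 0)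
    (hd : e * d + sx * x + sy * y = 0) :
    e * a ^ 2 * x * y + sx * b ^ 2 * d * y + sy * c ^ 2 * d * x =
      -(e * sx * sy) * (b * y - c * x) ^ 2 := by
  have ha : a = -e * (sx * b + sy * c) := by rcases he with rfl | rfl <;> linarith
  have hd' : d = -e * (sx * x + sy * y) := by rcases he with rfl | rfl <;> linarith
  subst ha hd'
  rcases he with rfl | rfl <;> rcases hsx with rfl | rfl <;> rcases hsy with rfl | rfl <;> ring

variable {G : Type u} [Group G] [Finite G] {z t : G}

set_option maxHeartbeats 1000000 in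
theorem AbData.exists_degrees (D : AbData z t) (hperf : commutator G = ⊤) (hC : Cong z t)
    (hF : BigPrimes.Facts G) : Nonempty Degrees := by
  classical
  have := Fintype.ofFinite G
  obtain ⟨F⟩ := D.exists_Fam
  obtain ⟨az, at', hza, hta, m1, n1, o1, o1'⟩ := hC.values (F.μ 0) F.d (F.deg_μ 0)
  obtain ⟨bz, bt, hzb, htb, m2, n2, o2, o2'⟩ := hC.values F.X F.x F.deg_X
  obtain ⟨cz, ct, hzc, htc, m3, n3, o3, o3'⟩ := hC.values F.Y F.y F.deg_Y
  have hz11 : ¬ 11 ∣ orderOf z := by rw [D.ord_z]; norm_num
  have ht11 : ¬ 11 ∣ orderOf t := by rw [D.ord_t]; norm_num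
  have zlin : F.e * az + F.sx * bz + F.sy * cz = 0 := by
    have h := F.lin_zero hz11
    rw [hza, hzb, hzc] at h
    exact_mod_cast h
  have tlin : F.e * at' + F.sx * bt + F.sy * ct = 0 := by
    have h := F.lin_zero ht11
    rw [hta, htb, htc] at h
    exact_mod_cast h
  have hx1 := F.one_lt_x hperf
  have hy1 := F.one_lt_y hperf
  have hd0 : (0 : ℤ) < F.d := by
    have h := F.ne_zero.1
    have : F.d ≠ 0 := fun e => h (by rw [e, Nat.cast_zero])
    omega
  have hsss : (F.e * F.sx * F.sy = 1) ∨ (F.e * F.sx * F.sy = -1) := by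
    rcases F.sign_e with h | h <;> rcases F.sign_x with h' | h' <;>
      rcases F.sign_y with h'' | h'' <;> simp [h, h', h'']
  -- the first class
  have zprop : bz * F.y = cz * F.x := by
    have h := F.quad_z hza hzb hzc
    rw [quad_eq F.sign_e F.sign_x F.sign_y zlin F.degree] at h
    rcases hsss with e | e <;> rw [e] at h <;> nlinarith [sq_nonneg (bz * F.y - cz * F.x)]
  have ha : az = -F.e * (F.sx * bz + F.sy * cz) := by
    rcases F.sign_e with h | h <;> rw [h] at zlin ⊢ <;> linarith
  have hd : (F.d : ℤ) = -F.e * (F.sx * F.x + F.sy * F.y) := by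
    have := F.degree
    rcases F.sign_e with h | h <;> rw [h] at this ⊢ <;> linarith
  -- the second class
  have tq := F.quad_t hta htb htc
  rw [quad_eq F.sign_e F.sign_x F.sign_y tlin F.degree] at tq
  have hpos : (0 : ℤ) < F.d * F.x * F.y := by
    have : (0 : ℤ) < F.x := by omega
    have : (0 : ℤ) < F.y := by omega
    positivity
  simp only [jOrder, tOrder, Nat.cast_ofNat] at tq
  have tsign : F.e * F.sx * F.sy = 1 := by
    refine hsss.resolve_right fun e => ?_
    rw [e] at tq
    nlinarith [sq_nonneg (bt * F.y - ct * F.x)]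
  rw [tsign] at tq
  obtain ⟨u1, hu1, hc1, hn1⟩ := prime_gen hF (p := 23) (e := 22) (by simp)
  obtain ⟨u2, hu2, hc2, hn2⟩ := prime_gen hF (p := 29) (e := 28) (by simp)
  obtain ⟨u3, hu3, hc3, hn3⟩ := prime_gen hF (p := 37) (e := 12) (by simp)
  obtain ⟨a23, b23, c23, p1, p2, p3, q23⟩ :=
    F.prime_data (by norm_num) (by norm_num) hu1 hc1 hn1 (by norm_num)
  obtain ⟨a29, b29, c29, r1, r2, r3, q29⟩ :=
    F.prime_data (by norm_num) (by norm_num) hu2 hc2 hn2 (by norm_num)
  obtain ⟨m37, b37, c37, s1, -, -, q37⟩ :=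
    F.prime_data (by norm_num) (by norm_num) hu3 hc3 hn3 (by norm_num)
  push_cast at p1 p2 p3 q23 r1 r2 r3 q29 s1 q37
  refine ⟨{
    e := F.e, sx := F.sx, sy := F.sy, d := F.d, x := F.x, y := F.y
    p := F.p, q := F.q, p1 := F.p1, q1 := F.q1, p2 := F.p2, q2 := F.q2
    az := az, bz := bz, cz := cz, at' := at', bt := bt, ct := ct
    a23 := a23, b23 := b23, c23 := c23, a29 := a29, b29 := b29, c29 := c29, m37 := m37
    sign_e := F.sign_e, sign_x := F.sign_x, sign_y := F.sign_y
    one_lt_x := hx1, one_lt_y := hy1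
    dvd_d := F.degree_dvd _ (F.deg_μ 0)
    dvd_x := F.degree_dvd _ F.deg_X
    dvd_y := F.degree_dvd _ F.deg_Y
    squares := F.squares, degree := F.degree
    res_d := F.res_d, res_x := F.res_x, res_y := F.res_y
    rel_p := F.rel_p, rel_q := F.rel_q
    bound_p := F.bound_p, bound_q := F.bound_q
    central_x := F.central_x
    z_lin := zlin
    z_prop_x := by rw [ha, hd]; linear_combination F.e * F.sy * zprop
    z_prop_y := by rw [ha, hd]; linear_combination -(F.e * F.sx * zprop)
    z_bound := D.card_cz ▸ F.col_bound hz11 hza hzb hzc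
    z_mod_d := m1, z_mod_x := m2, z_mod_y := m3
    z_dvd_d := o1, z_dvd_x := o2, z_dvd_y := o3
    t_lin := tlin, t_sign := tsign
    t_square := by nlinarith
    t_bound := D.card_ct ▸ F.col_bound ht11 hta htb htc
    t_mod_d := n1, t_mod_x := n2, t_mod_y := n3
    t_dvd_d := o1', t_dvd_x := o2', t_dvd_y := o3'
    mod23_d := by omega
    mod23_x := by omega
    mod23_y := by omega
    bound23 := by linarith
    mod29_d := by omega
    mod29_x := by omega
    mod29_y := by omega
    bound29 := by linarith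
    mod37 := s1
    bound37 := by nlinarith [sq_nonneg b37, sq_nonneg c37] }⟩

/-- The congruences depend only on the classes of the two involutions. -/
theorem Cong.of_isConj {z' t' : G} (h : Cong z t) (hz : IsConj z z') (ht : IsConj t t') :
    Cong z' t' := by
  refine ⟨fun χ d hd => ?_⟩
  obtain ⟨a, b, ha, hb, rest⟩ := h.values χ d hd
  exact ⟨a, b, by rw [← ha, isClassFunction_isConj (irr_isClassFunction χ.2) hz],
    by rw [← hb, isClassFunction_isConj (irr_isClassFunction χ.2) ht], rest⟩

end CfsgLib.J4Type.Eleven
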