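import Cfsg.Agent.Lib.Char.Integral
import Cfsg.Agent.Lib.Char.Basic
import Mathlib.LinearAlgebra.Trace
import Mathlib.LinearAlgebra.Projection

/-!
Elementary congruences for characters: values at involutions, twisted sums over a subgroup, and the
divisibility given by central characters.
-/

set_option autoImplicit false

namespace CfsgLib.J4Type.Eleven

open Subgroup

variable {G : Type*} [Group G] [Finite G]

/-- The value at an element of square one is an integer. -/
theorem exists_int_value {V : Type*} [AddCommGroup V] [Module ℂ V] [FiniteDimensional ℂ V]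
    (ρ : Representation ℂ G V) {g : G} (hg : orderOf g = 2) : ∃ a : ℤ, ρ.character g = a := by
  classical
  obtain ⟨ι, hι, b, μ, -, h2, h3, -⟩ := CfsgLib.Char.exists_char_eigen ρ g
  have hμ : ∀ i, ∃ k : ℤ, μ i = k := fun i => by
    have h := h2 i
    rw [hg] at h
    rcases sq_eq_one_iff.1 h with e | e
    · exact ⟨1, by simp [e]⟩
    · exact ⟨-1, by simp [e]⟩
  choose k hk using hμ
  refine ⟨∑ i, k i, ?_⟩
  have h := h3 1
  simp only [pow_one] at h
  rw [h, Int.cast_sum]
  exact Finset.sum_congr rfl fun i _ => hk i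

/-- A sum of a character over a subgroup twisted by a sign character is a multiple of its order. -/
theorem twisted_sum {V : Type*} [AddCommGroup V] [Module ℂ V] [FiniteDimensional ℂ V]
    (ρ : Representation ℂ G V) (A : Subgroup G) [Fintype A] (lam : A → ℤ)
    (hmul : ∀ a b, lam (a * b) = lam a * lam b) (hsq : ∀ a, lam a * lam a = 1) :
    ∃ k : ℕ, ∑ a : A, (lam a : ℂ) * ρ.character a = (Nat.card A : ℂ) * k := by
  classical
  set P : Module.End ℂ V := ∑ a : A, (lam a : ℂ) • ρ (a : G) with hP
  have hstep : ∀ b : A, ρ (b : G) * P = (lam b : ℂ) • P := by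
    intro b
    rw [hP, Finset.mul_sum, Finset.smul_sum]
    refine Fintype.sum_equiv (Equiv.mulLeft b) _ _ fun a => ?_
    rw [Equiv.coe_mulLeft, hmul, smul_smul, mul_smul_comm, ← map_mul, Subgroup.coe_mul]
    congr 1
    rw [Int.cast_mul, ← mul_assoc, ← Int.cast_mul, hsq b, Int.cast_one, one_mul]
  have hPP : P * P = (Nat.card A : ℂ) • P := by
    have h1 : P * P = ∑ a : A, (lam a : ℂ) • (ρ (a : G) * P) := by
      conv_lhs => arg 1; rw [hP]
      rw [Finset.sum_mul]
      exact Finset.sum_congr rfl fun a _ => smul_mul_assoc _ _ _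
    rw [h1]
    calc ∑ a : A, (lam a : ℂ) • (ρ (a : G) * P) = ∑ _a : A, P := Finset.sum_congr rfl fun a _ => by
          rw [hstep a, smul_smul, ← Int.cast_mul, hsq a, Int.cast_one, one_smul]
      _ = (Nat.card A : ℂ) • P := by
          rw [Finset.sum_const, Finset.card_univ, ← Nat.card_eq_fintype_card, Nat.cast_smul_eq_nsmul]
  have hA : (Nat.card A : ℂ) ≠ 0 := Nat.cast_ne_zero.2 Nat.card_pos.ne'
  have hidem : IsIdempotentElem ((Nat.card A : ℂ)⁻¹ • P) := by
    show (Nat.card A : ℂ)⁻¹ • P * ((Nat.card A : ℂ)⁻¹ • P) = _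
    rw [smul_mul_assoc, mul_smul_comm, hPP, smul_smul, smul_smul, mul_assoc, inv_mul_cancel₀ hA,
      mul_one]
  have htr := (LinearMap.IsIdempotentElem.isProj_range _ hidem).trace
  refine ⟨Module.finrank ℂ (LinearMap.range ((Nat.card A : ℂ)⁻¹ • P)), ?_⟩
  rw [← htr, map_smul, smul_eq_mul, ← mul_assoc, mul_inv_cancel₀ hA, one_mul, hP, map_sum]
  exact Finset.sum_congr rfl fun a _ => by rw [map_smul, smul_eq_mul]; rfl

/-- The degree divides the value times the size of the class. -/
theorem degree_dvd_mul_index {V : Type*} [AddCommGroup V] [Module ℂ V] [FiniteDimensional ℂ V]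
    (ρ : Representation ℂ G V) [ρ.IsIrreducible] {g : G} {a : ℤ} (ha : ρ.character g = a) :
    (Module.finrank ℂ V : ℤ) ∣ a * ((centralizer ({g} : Set G)).index : ℤ) := by
  have := CfsgLib.Char.nontrivial_of_isIrreducible ρ
  have h0 : (Module.finrank ℂ V : ℚ) ≠ 0 := Nat.cast_ne_zero.2 Module.finrank_pos.ne'
  have h := CfsgLib.Char.centralChar_isIntegral ρ g
  rw [ha] at h
  obtain ⟨k, hk⟩ := CfsgLib.Char.exists_int_of_isIntegral_rat
    (q := ((centralizer ({g} : Set G)).index : ℚ) * (a : ℚ) / (Module.finrank ℂ V : ℚ))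
    (by push_cast; exact h)
  rw [div_eq_iff h0] at hk
  have h' : ((centralizer ({g} : Set G)).index : ℤ) * a = k * (Module.finrank ℂ V : ℤ) := by
    exact_mod_cast hk
  exact ⟨k, by rw [mul_comm a, h', mul_comm]⟩

end CfsgLib.J4Type.Eleven
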