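import Cfsg.Agent.Lib.J4Type.Eleven.Interface
import Cfsg.Agent.Lib.J4Type.Eleven.CongSums
import Cfsg.Agent.Lib.J4Type.Order.Formula
import Cfsg.Agent.Lib.J4Type.Order.TSide

/-!
The congruences for the values of an irreducible character at the two involutions, from the trivial
character and a character of dodecad type of the elementary abelian subgroup of order `2 ^ 11`.
-/

set_option autoImplicit false
set_option linter.unusedSectionVars false
set_option maxRecDepth 100000

namespace CfsgLib.J4Type.Eleven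

open Subgroup

/-- A sign character of the coordinates, of dodecad type. -/
def dodec (n : ℕ) : Bool := ((n.testBit 1 ^^ n.testBit 2) ^^ n.testBit 4)

/-- The corresponding sign. -/
def dodecSign (n : ℕ) : ℤ := bif dodec n then -1 else 1

theorem dodec_xor (a b : ℕ) : dodec (a ^^^ b) = (dodec a ^^ dodec b) := by
  simp only [dodec, Nat.testBit_xor]
  cases a.testBit 1 <;> cases a.testBit 2 <;> cases a.testBit 4 <;>
    cases b.testBit 1 <;> cases b.testBit 2 <;> cases b.testBit 4 <;> rfl

theorem dodecSign_xor (a b : ℕ) : dodecSign (a ^^^ b) = dodecSign a * dodecSign b := by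
  simp only [dodecSign, dodec_xor]
  cases dodec a <;> cases dodec b <;> rfl

theorem dodecSign_sq (a : ℕ) : dodecSign a * dodecSign a = 1 := by
  simp only [dodecSign]
  cases dodec a <;> rfl

/-- The two weights of the second class. -/
theorem weights : ((List.range 2048).countP fun n => NV.inB n) = 276 ∧
    ((List.range 2048).countP fun n => NV.inB n && dodec n) = 144 ∧
    ((List.range 2048).countP fun n => dodec n) = 1024 ∧ NV.inB 0 = false ∧ dodec 0 = false := by
  decide +kernel

theorem countP_eq (f : ℕ → Bool) :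
    ((List.range 2048).countP f) = ((Finset.range 2048).filter fun n => f n = true).card := by
  rw [List.countP_eq_length_filter, ← List.toFinset_card_of_nodup (List.nodup_range.filter _),
    List.toFinset_filter, List.toFinset_range]

variable {G : Type*} [Group G] [Finite G] {z : G} {P : Subgroup G} {F : Frame z P} (D : VData F)

open CfsgLib.J4Type.Frame

/-- The values of a character on `V`, summed against a sign. -/
theorem sum_eq [IsSimpleGroup G] (hf : Fused D) {t : G} (ho : orderOf t = 2) (hnc : ¬ IsConj z t)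
    {W : Type*} [AddCommGroup W] [Module ℂ W] [FiniteDimensional ℂ W] (ρ : Representation ℂ G W)
    (w : ℕ → ℤ) (hw0 : w 0 = 1) [Fintype D.V] :
    ∑ v : D.V, (w (cV D (v : G)) : ℂ) * ρ.character (v : G) =
      ρ.character 1 +
        ((((Finset.range 2048).filter fun n => n ≠ 0 ∧ NV.inB n = false).sum w : ℤ) : ℂ) * ρ.character z +
        ((((Finset.range 2048).filter fun n => NV.inB n = true).sum w : ℤ) : ℂ) * ρ.character t := by
  classical
  obtain ⟨-, hZ⟩ := exists_cover D hf
  have hconj : ∀ u v : G, IsConj u v → ρ.character v = ρ.character u := by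
    intro u v h
    obtain ⟨c, rfl⟩ := isConj_iff.1 h
    exact ρ.char_conj u c
  obtain ⟨t₀, ht₀⟩ := exists_pairV D hf
  have htt : IsConj t₀ t := by
    have h2 : t * t = 1 := by
      have := pow_orderOf_eq_one t
      rwa [ho, pow_two] at this
    rcases Order.classes D hf ht₀ t h2 (fun h => by rw [h, orderOf_one] at ho; exact absurd ho (by norm_num))
      with h | h
    · exact absurd h hnc
    · exact h
  have hval : ∀ n ∈ Finset.range 2048, n ≠ 0 → ρ.character (vE D n) =
      if NV.inB n = true then ρ.character t else ρ.character z := by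
    intro n hn h0
    have hn' := Finset.mem_range.1 hn
    split_ifs with h
    · obtain ⟨c, -, hc⟩ := pairV_transitive D hf ht₀ (pairV_of_inB D hf hn' h)
      rw [hconj t₀ t htt, hconj t₀ _ (isConj_iff.2 ⟨c, hc⟩)]
    · have hz := hZ n hn' h0
      rw [Bool.eq_false_iff.2 h] at hz
      exact hconj z _ (by simpa [isZ] using hz)
  have hsum : ∑ v : D.V, (w (cV D (v : G)) : ℂ) * ρ.character (v : G) =
      ∑ n ∈ Finset.range 2048, (w n : ℂ) * ρ.character (vE D n) := by
    refine Finset.sum_bij (fun v _ => cV D (v : G)) ?_ ?_ ?_ ?_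
    · exact fun v _ => Finset.mem_range.2 (cV_spec D v.2).1
    · intro a _ b _ e
      refine Subtype.ext ?_
      rw [← (cV_spec D a.2).2, ← (cV_spec D b.2).2, e]
    · intro n hn
      exact ⟨⟨vE D n, vE_mem D (Finset.mem_range.1 hn)⟩, Finset.mem_univ _, cV_vE D (Finset.mem_range.1 hn)⟩
    · intro v _
      rw [(cV_spec D v.2).2]
  rw [hsum, ← Finset.sum_filter_add_sum_filter_not (Finset.range 2048) (fun n => n = 0)]
  have e0 : (Finset.range 2048).filter (fun n => n = 0) = {0} := by
    ext n
    simp only [Finset.mem_filter, Finset.mem_range, Finset.mem_singleton]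
    omega
  rw [e0, Finset.sum_singleton, hw0, vE_zero D, Int.cast_one, one_mul, add_assoc]
  congr 1
  rw [← Finset.sum_filter_add_sum_filter_not _ (fun n => NV.inB n = false), Finset.filter_filter,
    Finset.filter_filter, Int.cast_sum, Int.cast_sum, Finset.sum_mul, Finset.sum_mul]
  congr 1
  · refine Finset.sum_congr rfl fun n hn => ?_
    obtain ⟨h1, h0, hB⟩ := Finset.mem_filter.1 hn
    rw [hval n h1 h0, if_neg (by simp [hB])]
  · refine Finset.sum_congr ?_ fun n hn => ?_
    · ext n
      simp only [Finset.mem_filter, Bool.not_eq_false]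
      exact ⟨fun h => ⟨h.1, h.2.2⟩, fun h => ⟨h.1, fun e => by
        rw [e, weights.2.2.2.1] at h; exact absurd h.2 Bool.false_ne_true, h.2⟩⟩
    · obtain ⟨h1, hB⟩ := Finset.mem_filter.1 hn
      rw [hval n h1 (fun e => by rw [e, weights.2.2.2.1] at hB; exact Bool.false_ne_true hB), if_pos hB]

theorem sums_one :
    ((Finset.range 2048).filter fun n => n ≠ 0 ∧ NV.inB n = false).sum (fun _ => (1 : ℤ)) = 1771 ∧
    ((Finset.range 2048).filter fun n => NV.inB n = true).sum (fun _ => (1 : ℤ)) = 276 := by
  have hB := weights.1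
  rw [countP_eq] at hB
  have h1 := Finset.card_filter_add_card_filter_not (s := Finset.range 2048) (fun n => NV.inB n = true)
  have h2 : ((Finset.range 2048).filter fun n => ¬ NV.inB n = true) =
      insert 0 ((Finset.range 2048).filter fun n => n ≠ 0 ∧ NV.inB n = false) := by
    ext n
    simp only [Finset.mem_insert, Finset.mem_filter, Finset.mem_range, Bool.not_eq_true]
    constructor
    · intro h; by_cases hn : n = 0
      · exact Or.inl hn
      · exact Or.inr ⟨h.1, hn, h.2⟩
    · rintro (rfl | h)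
      · exact ⟨by norm_num, weights.2.2.2.1⟩
      · exact ⟨h.1, h.2.2⟩
  rw [h2, Finset.card_insert_of_notMem (by simp), Finset.card_range, hB] at h1
  simp only [Finset.sum_const, nsmul_eq_mul, mul_one, hB]
  have h3 : ((Finset.range 2048).filter fun n => n ≠ 0 ∧ NV.inB n = false).card = 1771 := by omega
  exact ⟨by rw [h3]; rfl, rfl⟩

theorem sums_dodec :
    ((Finset.range 2048).filter fun n => n ≠ 0 ∧ NV.inB n = false).sum dodecSign = 11 ∧
    ((Finset.range 2048).filter fun n => NV.inB n = true).sum dodecSign = -12 := by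
  constructor <;> decide +kernel

/-- The congruences for the two involutions. -/
theorem cong_of [IsSimpleGroup G] (_hG : ¬ IsMulCommutative G) {F : Frame z P} (D : VData F) (hf : Fused D) {t : G}
    (ho : orderOf t = 2) (hnc : ¬ IsConj z t) (hG : Nat.card G = jOrder) : Cong z t := by
  have hz : Nat.card (centralizer ({z} : Set G)) = zOrder := by
    rw [show Nat.card (centralizer ({z} : Set G)) = 2 ^ 13 * 3 * 887040 from F.card_cen]
    rfl
  obtain ⟨t₀, ht₀⟩ := exists_pairV D hf
  have ht : Nat.card (centralizer ({t} : Set G)) = tOrder := by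
    have h2 : t * t = 1 := by
      have := pow_orderOf_eq_one t
      rwa [ho, pow_two] at this
    obtain ⟨c, hc⟩ := isConj_iff.1 ((Order.classes D hf ht₀ t h2 (fun h => by
      rw [h, orderOf_one] at ho; exact absurd ho (by norm_num))).resolve_left hnc)
    have h := (Order.tSide D hf ht₀).1
    rw [← hc, ← h.trans (show (1816657920 : ℕ) = tOrder from rfl)]
    refine Nat.card_congr ((MulAut.conj c⁻¹).toEquiv.subtypeEquiv fun u => ?_)
    simp only [Subgroup.mem_centralizer_singleton_iff]
    show u * (c * t₀ * c⁻¹) = c * t₀ * c⁻¹ * u ↔ c⁻¹ * u * c⁻¹⁻¹ * t₀ = t₀ * (c⁻¹ * u * c⁻¹⁻¹)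
    constructor
    · intro hu
      calc c⁻¹ * u * c⁻¹⁻¹ * t₀ = c⁻¹ * (u * (c * t₀ * c⁻¹)) * c := by group
        _ = c⁻¹ * (c * t₀ * c⁻¹ * u) * c := by rw [hu]
        _ = t₀ * (c⁻¹ * u * c⁻¹⁻¹) := by group
    · intro hu
      calc u * (c * t₀ * c⁻¹) = c * (c⁻¹ * u * c⁻¹⁻¹ * t₀) * c⁻¹ := by group
        _ = c * (t₀ * (c⁻¹ * u * c⁻¹⁻¹)) * c⁻¹ := by rw [hu]
        _ = c * t₀ * c⁻¹ * u := by group
  refine ⟨fun χ d hd => ?_⟩
  obtain ⟨m, ρ, hρ, hχ⟩ := χ.2
  haveI := hρ
  obtain ⟨a, ha⟩ := exists_int_value ρ F.orderOf_z'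
  obtain ⟨b, hb⟩ := exists_int_value ρ ho
  have h1 : ρ.character 1 = (d : ℂ) := by rw [hχ]; exact hd
  have hfr : Module.finrank ℂ (Fin m → ℂ) = d := by
    rw [Representation.char_one] at h1
    exact_mod_cast h1
  have hidx : ∀ g : G, (centralizer ({g} : Set G)).index =
      jOrder / Nat.card (centralizer ({g} : Set G)) := fun g => by
    rw [← hG, ← (centralizer ({g} : Set G)).card_mul_index, Nat.mul_div_cancel_left _ Nat.card_pos]
  classical
  have := Fintype.ofFinite D.V
  have hcard : Nat.card D.V = 2048 := by rw [D.card]; norm_num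
  obtain ⟨k1, hk1⟩ := twisted_sum ρ D.V (fun _ => 1) (fun _ _ => rfl) (fun _ => rfl)
  obtain ⟨k2, hk2⟩ := twisted_sum ρ D.V (fun v => dodecSign (cV D (v : G)))
    (fun u v => by rw [Subgroup.coe_mul, cV_mul D u.2 v.2, dodecSign_xor]) (fun _ => dodecSign_sq _)
  have e1 := sum_eq D hf ho hnc ρ (fun _ => 1) rfl
  have e2 := sum_eq D hf ho hnc ρ dodecSign (by simp [dodecSign, weights.2.2.2.2])
  rw [hk1, hcard, sums_one.1, sums_one.2, h1, ha, hb] at e1
  rw [hk2, hcard, sums_dodec.1, sums_dodec.2, h1, ha, hb] at e2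
  have f1 : (2048 : ℤ) * k1 = d + 1771 * a + 276 * b := by exact_mod_cast e1
  have f2 : (2048 : ℤ) * k2 = d + 11 * a + (-12) * b := by exact_mod_cast e2
  refine ⟨a, b, by rw [← hχ, ha], by rw [← hχ, hb], by omega, ⟨k2, by linarith⟩, ?_, ?_⟩
  · have h := degree_dvd_mul_index ρ ha
    rwa [hfr, hidx, hz] at h
  · have h := degree_dvd_mul_index ρ hb
    rwa [hfr, hidx, ht] at h

end CfsgLib.J4Type.Eleven
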