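import Mathlib
import Cfsg.Prelude.Def_Characters

/-!
Data shared by the parts of the proof that a Sylow subgroup for the prime eleven of a group of
Janko-four type is not abelian: the local facts in the abelian case, the congruences of the values
at the involutions, and the numerical consequence that is refuted by a finite check.
-/

set_option autoImplicit false

namespace CfsgLib.J4Type.Eleven

open Subgroup

/-- The order of the group. -/
def jOrder : ℕ := 86775571046077562880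

/-- The order of the centraliser of the central involution. -/
def zOrder : ℕ := 21799895040

/-- The order of the centraliser of an involution of the other class. -/
def tOrder : ℕ := 1816657920

/-- The hypothetical abelian case. -/
structure AbData {G : Type*} [Group G] (z t : G) where
  /-- The Sylow subgroup. -/
  S : Subgroup G
  /-- Its part fixed by the central involution. -/
  X : Subgroup G
  /-- Its part inverted by the central involution. -/
  W : Subgroup G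
  card_G : Nat.card G = jOrder
  ord_z : orderOf z = 2
  ord_t : orderOf t = 2
  not_conj : ¬ IsConj z t
  two_classes : ∀ u : G, orderOf u = 2 → IsConj z u ∨ IsConj t u
  card_cz : Nat.card (centralizer ({z} : Set G)) = zOrder
  card_ct : Nat.card (centralizer ({t} : Set G)) = tOrder
  card_S : Nat.card S = 11 ^ 3
  comm : ∀ a ∈ S, ∀ b ∈ S, a * b = b * a
  pow_eleven : ∀ s ∈ S, s ^ 11 = 1
  X_le : X ≤ S
  W_le : W ≤ S
  card_X : Nat.card X = 11
  card_W : Nat.card W = 11 ^ 2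
  disjoint : X ⊓ W = ⊥
  card_N : Nat.card (normalizer (S : Set G)) = 319440
  norm_X : normalizer (S : Set G) ≤ normalizer (X : Set G)
  norm_W : normalizer (S : Set G) ≤ normalizer (W : Set G)
  ti : ∀ g : G, g ∉ normalizer (S : Set G) → ∀ s ∈ S, g * s * g⁻¹ ∈ S → s = 1
  cent_le : ∀ s ∈ S, s ≠ 1 → centralizer ({s} : Set G) ≤ normalizer (S : Set G)
  cent_free : ∀ s ∈ S, s ∉ X → s ∉ W → centralizer ({s} : Set G) ≤ S
  card_cent_X : ∀ x ∈ X, x ≠ 1 → Nat.card (centralizer ({x} : Set G)) = 31944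
  card_cent_W : ∀ w ∈ W, w ≠ 1 → Nat.card (centralizer ({w} : Set G)) = 2662
  t_norm : t ∈ normalizer (S : Set G)
  t_inv_X : ∀ x ∈ X, t * x * t⁻¹ = x⁻¹
  t_fix : ∃ w ∈ W, w ≠ 1 ∧ t * w = w * t
  /-- An involution of the second class centralises exactly eleven elements of the subgroup. -/
  card_fix : ∀ u ∈ normalizer (S : Set G), IsConj t u →
    Nat.card ↥(S ⊓ centralizer ({u} : Set G)) = 11

/-- The congruences for the values of an irreducible character at the two involutions. -/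
structure Cong {G : Type*} [Group G] (z t : G) : Prop where
  values : ∀ χ : Cfsg.IrrCharacter G, ∀ d : ℕ, (χ : G → ℂ) 1 = d → ∃ a b : ℤ,
    (χ : G → ℂ) z = a ∧ (χ : G → ℂ) t = b ∧ (128 : ℤ) ∣ d - a ∧
      (2048 : ℤ) ∣ d + 11 * a - 12 * b ∧ (d : ℤ) ∣ a * (jOrder / zOrder : ℕ) ∧
      (d : ℤ) ∣ b * (jOrder / tOrder : ℕ)

/-- The numbers coming from five exceptional characters of degree `d` and the two further
constituents of degrees `x`, `y` of an induced virtual character of norm three. -/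
structure Degrees where
  (e sx sy : ℤ)
  (d x y : ℕ)
  (p q p1 q1 p2 q2 : ℤ)
  (az bz cz at' bt ct : ℤ)
  (a23 b23 c23 a29 b29 c29 m37 : ℤ)
  sign_e : e = 1 ∨ e = -1
  sign_x : sx = 1 ∨ sx = -1
  sign_y : sy = 1 ∨ sy = -1
  one_lt_x : 1 < x
  one_lt_y : 1 < y
  dvd_d : d ∣ jOrder
  dvd_x : x ∣ jOrder
  dvd_y : y ∣ jOrder
  squares : 5 * d ^ 2 + x ^ 2 + y ^ 2 ≤ jOrder
  degree : e * d + sx * x + sy * y = 0
  res_d : (1331 : ℤ) ∣ d - 240 * e - p - 10 * q
  res_x : (1331 : ℤ) ∣ x + 120 * sx - p1 - 10 * q1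
  res_y : (1331 : ℤ) ∣ y + 120 * sy - p2 - 10 * q2
  rel_p : e * p + sx * p1 + sy * p2 = 0
  rel_q : e * q + sx * q1 + sy * q2 = 0
  bound_p : 4 * p ^ 2 + (p - e) ^ 2 + p1 ^ 2 + p2 ^ 2 ≤ 240
  bound_q : 4 * q ^ 2 + (q - e) ^ 2 + q1 ^ 2 + q2 ^ 2 ≤ 25
  central_x : (d : ℤ) ∣ 10 * (jOrder / 31944 : ℕ) * (p - q - 24 * e)
  z_lin : e * az + sx * bz + sy * cz = 0
  z_prop_x : az * x = bz * d
  z_prop_y : az * y = cz * d
  z_bound : 5 * az ^ 2 + bz ^ 2 + cz ^ 2 ≤ zOrder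
  z_mod_d : (128 : ℤ) ∣ d - az
  z_mod_x : (128 : ℤ) ∣ x - bz
  z_mod_y : (128 : ℤ) ∣ y - cz
  z_dvd_d : (d : ℤ) ∣ az * (jOrder / zOrder : ℕ)
  z_dvd_x : (x : ℤ) ∣ bz * (jOrder / zOrder : ℕ)
  z_dvd_y : (y : ℤ) ∣ cz * (jOrder / zOrder : ℕ)
  t_lin : e * at' + sx * bt + sy * ct = 0
  t_sign : e * sx * sy = 1
  t_square : (bt * y - ct * x) ^ 2 * 32897107 = 2 ^ 17 * 105 * d * x * y
  t_bound : 5 * at' ^ 2 + bt ^ 2 + ct ^ 2 ≤ tOrder
  t_mod_d : (2048 : ℤ) ∣ d + 11 * az - 12 * at'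
  t_mod_x : (2048 : ℤ) ∣ x + 11 * bz - 12 * bt
  t_mod_y : (2048 : ℤ) ∣ y + 11 * cz - 12 * ct
  t_dvd_d : (d : ℤ) ∣ at' * (jOrder / tOrder : ℕ)
  t_dvd_x : (x : ℤ) ∣ bt * (jOrder / tOrder : ℕ)
  t_dvd_y : (y : ℤ) ∣ ct * (jOrder / tOrder : ℕ)
  mod23_d : (23 : ℤ) ∣ d - a23
  mod23_x : (23 : ℤ) ∣ x - b23
  mod23_y : (23 : ℤ) ∣ y - c23
  bound23 : 5 * a23 ^ 2 + b23 ^ 2 + c23 ^ 2 ≤ 22
  mod29_d : (29 : ℤ) ∣ d - a29
  mod29_x : (29 : ℤ) ∣ x - b29
  mod29_y : (29 : ℤ) ∣ y - c29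
  bound29 : 5 * a29 ^ 2 + b29 ^ 2 + c29 ^ 2 ≤ 28
  mod37 : (37 : ℤ) ∣ 12 * m37 + d
  bound37 : 5 * (12 * m37) ^ 2 ≤ 36 * 36 * 37

end CfsgLib.J4Type.Eleven
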