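import Cfsg.Agent.Lib.J4Type.Eleven.ArithCheck

/-!
The numerical consequence of an abelian Sylow subgroup for eleven is contradictory.
-/

set_option autoImplicit false
set_option maxRecDepth 100000

namespace CfsgLib.J4Type.Eleven

theorem sqm_le {q n : ℕ} {a : ℤ} (hq : 0 < q) (h : (q : ℤ) ∣ n - a) : (sqm q n : ℤ) ≤ a ^ 2 := by
  obtain ⟨k, hk⟩ := h
  have hv : n % q < q := Nat.mod_lt _ hq
  have hn : (n : ℤ) = (q : ℤ) * ((n / q : ℕ) : ℤ) + ((n % q : ℕ) : ℤ) := by
    exact_mod_cast (Nat.div_add_mod n q).symm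
  obtain ⟨l, hl⟩ : ∃ l : ℤ, a = ((n % q : ℕ) : ℤ) + (q : ℤ) * l :=
    ⟨((n / q : ℕ) : ℤ) - k, by rw [mul_sub]; linarith⟩
  unfold sqm
  rcases le_or_gt 0 l with h0 | h0
  · have h1 : ((n % q : ℕ) : ℤ) ≤ a := by
      have := mul_nonneg (show (0 : ℤ) ≤ q by positivity) h0
      linarith
    have h2 : ((min (n % q) (q - n % q) : ℕ) : ℤ) ≤ a :=
      le_trans (by exact_mod_cast min_le_left _ _) h1
    rw [Nat.cast_pow]
    exact pow_le_pow_left₀ (Nat.cast_nonneg _) h2 2
  · have h1 : (q : ℤ) * l ≤ -(q : ℤ) := by nlinarith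
    have h2 : ((min (n % q) (q - n % q) : ℕ) : ℤ) ≤ -a := by
      have : ((q - n % q : ℕ) : ℤ) ≤ -a := by rw [Nat.cast_sub hv.le]; linarith
      exact le_trans (by exact_mod_cast min_le_right _ _) this
    rw [Nat.cast_pow, ← neg_sq a]
    exact pow_le_pow_left₀ (Nat.cast_nonneg _) h2 2

theorem allDiv_spec : ∀ (l : List (ℕ × ℕ)) (acc : ℕ) (f : ℕ → Bool), (∀ p ∈ l, p.1.Prime) →
    allDiv l acc f = true → ∀ d, d ∣ (l.map fun p => p.1 ^ p.2).prod → f (acc * d) = true := by
  intro l
  induction l with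
  | nil =>
    intro acc f _ h d hd
    simp only [List.map_nil, List.prod_nil, Nat.dvd_one] at hd
    rw [hd, mul_one]
    exact h
  | cons pe l ih =>
    obtain ⟨p, e⟩ := pe
    intro acc f hp h d hd
    simp only [List.map_cons, List.prod_cons] at hd
    obtain ⟨a, b, ha, hb, rfl⟩ := Nat.dvd_mul.1 hd
    obtain ⟨i, hi, rfl⟩ := (Nat.dvd_prime_pow (hp _ (List.mem_cons_self ..))).1 ha
    simp only [allDiv, List.all_eq_true, List.mem_range] at h
    rw [← mul_assoc]
    exact ih _ f (fun q hq => hp q (List.mem_cons_of_mem _ hq)) (h i (Nat.lt_succ_of_le hi)) b hb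

theorem div_check {f : ℕ → Bool} (h : allDiv jPrimes 1 f = true) {d : ℕ} (hd : d ∣ jOrder) :
    f d = true := by
  have hp : ∀ p ∈ jPrimes, p.1.Prime := by
    simp only [jPrimes, List.mem_cons, List.not_mem_nil, or_false, forall_eq_or_imp, forall_eq]
    norm_num
  have := allDiv_spec jPrimes 1 f hp h d (by simpa [jPrimes, jOrder] using hd)
  rwa [one_mul] at this

theorem mem_sym {j : ℤ} {n : ℕ} (h1 : -(n : ℤ) ≤ j) (h2 : j ≤ n) : j ∈ sym n := by
  simp only [sym, List.mem_map]
  simp
  exact ⟨(j + n).toNat, by omega, by omega⟩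

theorem abs_le_of_sq {j : ℤ} {n : ℕ} (h : j ^ 2 < ((n : ℤ) + 1) ^ 2) : j ∈ sym n := by
  have := abs_lt_of_sq_lt_sq h (by positivity)
  rw [abs_lt] at this
  exact mem_sym (by omega) (by omega)

/-- The mask of a residue table. -/
def tableOK (m : ℕ) (a b : ℕ) (g : ℤ → ℤ → Bool) (s : ℤ) : Bool :=
  (sym a).all fun p => (sym b).all fun q => !g p q || bit m ((s + p + 10 * q) % 1331).toNat

theorem table_Dp : tableOK maskDp 7 2 (fun p q => decide (4 * p ^ 2 + (p - 1) ^ 2 ≤ 240) &&
    decide (4 * q ^ 2 + (q - 1) ^ 2 ≤ 25)) 240 = true := by decide +kernel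
theorem table_Dm : tableOK maskDm 7 2 (fun p q => decide (4 * p ^ 2 + (p + 1) ^ 2 ≤ 240) &&
    decide (4 * q ^ 2 + (q + 1) ^ 2 ≤ 25)) (-240) = true := by decide +kernel
theorem table_Um : tableOK maskUm 15 5 (fun _ _ => true) 120 = true := by decide +kernel
theorem table_Up : tableOK maskUp 15 5 (fun _ _ => true) (-120) = true := by decide +kernel

theorem table_bit {m a b : ℕ} {g : ℤ → ℤ → Bool} {s p q : ℤ} (h : tableOK m a b g s = true)
    (hp : p ∈ sym a) (hq : q ∈ sym b) (hg : g p q = true) {n : ℕ}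
    (hn : (1331 : ℤ) ∣ n - (s + p + 10 * q)) : bit m n = true := by
  simp only [tableOK, List.all_eq_true] at h
  have h1 := h p hp q hq
  rw [hg] at h1
  have e : ((s + p + 10 * q) % 1331).toNat % 1331 = n % 1331 := by omega
  simpa only [Bool.not_true, Bool.false_or, bit, e] using h1

theorem step_dvd {d : ℕ} {a : ℤ} (hd : 0 < d) (h : (d : ℤ) ∣ a * ((jOrder / tOrder : ℕ) : ℤ)) :
    (step d : ℤ) ∣ a := by
  rw [Int.natCast_dvd, Int.natAbs_mul, Int.natAbs_natCast] at h
  rw [Int.natCast_dvd]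
  unfold step
  set T := jOrder / tOrder
  have hg : 0 < Nat.gcd d T := Nat.gcd_pos_of_pos_left _ hd
  have h1 : d / Nat.gcd d T ∣ a.natAbs * (T / Nat.gcd d T) := by
    refine Nat.dvd_of_mul_dvd_mul_left hg ?_
    rw [Nat.mul_div_cancel' (Nat.gcd_dvd_left _ _), mul_left_comm,
      Nat.mul_div_cancel' (Nat.gcd_dvd_right _ _)]
    exact h
  exact (Nat.coprime_div_gcd_div_gcd hg).dvd_of_dvd_mul_right h1

/-- Exchange of the two further constituents. -/
def Degrees.swap (D : Degrees) : Degrees where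
  e := D.e
  sx := D.sy
  sy := D.sx
  d := D.d
  x := D.y
  y := D.x
  p := D.p
  q := D.q
  p1 := D.p2
  q1 := D.q2
  p2 := D.p1
  q2 := D.q1
  az := D.az
  bz := D.cz
  cz := D.bz
  at' := D.at'
  bt := D.ct
  ct := D.bt
  a23 := D.a23
  b23 := D.c23
  c23 := D.b23
  a29 := D.a29
  b29 := D.c29
  c29 := D.b29
  m37 := D.m37
  sign_e := D.sign_e
  sign_x := D.sign_y
  sign_y := D.sign_x
  one_lt_x := D.one_lt_y
  one_lt_y := D.one_lt_x
  dvd_d := D.dvd_d
  dvd_x := D.dvd_y
  dvd_y := D.dvd_x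
  squares := by linarith [D.squares]
  degree := by linarith [D.degree]
  res_d := D.res_d
  res_x := D.res_y
  res_y := D.res_x
  rel_p := by linarith [D.rel_p]
  rel_q := by linarith [D.rel_q]
  bound_p := by linarith [D.bound_p]
  bound_q := by linarith [D.bound_q]
  central_x := D.central_x
  z_lin := by linarith [D.z_lin]
  z_prop_x := D.z_prop_y
  z_prop_y := D.z_prop_x
  z_bound := by linarith [D.z_bound]
  z_mod_d := D.z_mod_d
  z_mod_x := D.z_mod_y
  z_mod_y := D.z_mod_x
  z_dvd_d := D.z_dvd_d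
  z_dvd_x := D.z_dvd_y
  z_dvd_y := D.z_dvd_x
  t_lin := by linarith [D.t_lin]
  t_sign := by linear_combination D.t_sign
  t_square := by linear_combination D.t_square
  t_bound := by linarith [D.t_bound]
  t_mod_d := D.t_mod_d
  t_mod_x := D.t_mod_y
  t_mod_y := D.t_mod_x
  t_dvd_d := D.t_dvd_d
  t_dvd_x := D.t_dvd_y
  t_dvd_y := D.t_dvd_x
  mod23_d := D.mod23_d
  mod23_x := D.mod23_y
  mod23_y := D.mod23_x
  bound23 := by linarith [D.bound23]
  mod29_d := D.mod29_d
  mod29_x := D.mod29_y
  mod29_y := D.mod29_x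
  bound29 := by linarith [D.bound29]
  mod37 := D.mod37
  bound37 := D.bound37

theorem zip_mem {α β : Type} : ∀ {l : List α} {l' : List β}, l.length = l'.length → ∀ {a : α},
    a ∈ l → ∃ b, (a, b) ∈ l.zip l'
  | [], _, _, _, h => absurd h (List.not_mem_nil)
  | _ :: _, [], h, _, _ => by simp at h
  | x :: l, x' :: l', h, a, ha => by
    rcases List.mem_cons.1 ha with rfl | ha
    · exact ⟨x', by simp⟩
    · obtain ⟨b, hb⟩ := zip_mem (l := l) (l' := l') (by simpa using h) ha
      exact ⟨b, List.mem_cons_of_mem _ hb⟩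

theorem pairs_spec {c : Bool} {d x : ℕ} (hd : d ∈ degD) (hx : x ∈ degU)
    (h : condPair c d x = true) : (c, d, x) ∈ pairCand := by
  have key : ∀ l, pairsOK l = true → d ∈ l → (c, d, x) ∈ pairCand := by
    intro l hl hdl
    simp only [pairsOK, List.all_eq_true, Bool.and_eq_true] at hl
    obtain ⟨h1, h2⟩ := hl d hdl x hx
    cases c
    · rw [h] at h1; simpa using h1
    · rw [h] at h2; simpa using h2
  rw [← List.take_append_drop 100 degD, List.mem_append] at hd
  rcases hd with hd | hd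
  · exact key _ pairs_ok1 hd
  rw [← List.take_append_drop 100 (degD.drop 100), List.mem_append, List.drop_drop] at hd
  rcases hd with hd | hd
  · exact key _ pairs_ok2 hd
  · exact key _ pairs_ok3 hd

theorem kill_square {r S : ℕ} (h1 : r * r < S ^ 2) (h2 : S ^ 2 < (r + 1) * (r + 1)) : False := by
  rw [← pow_two] at h1 h2
  have h3 := lt_of_pow_lt_pow_left₀ 2 (Nat.zero_le _) h1
  have h4 := lt_of_pow_lt_pow_left₀ 2 (Nat.zero_le _) h2
  omega

theorem kill_res (D : Degrees) (c : Bool) (he : D.e = eOf c) (hsx : D.sx = -1)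
    (hsy : D.sy = -eOf c) (hP : D.p ∈ sym 7) (hQ : D.q ∈ sym 2) (hP1 : D.p1 ∈ sym 15)
    (hQ1 : D.q1 ∈ sym 5) (hk : resKill c D.d D.x D.y = true) : False := by
  have hp := D.bound_p
  have hq := D.bound_q
  have hc := D.central_x
  have hd := D.res_d
  have hx := D.res_x
  have hy := D.res_y
  have hrp := D.rel_p
  have hrq := D.rel_q
  rw [he, hsx, hsy] at hrp hrq
  rw [he] at hc hp hq hd
  rw [hsx] at hx
  rw [hsy] at hy
  have hp2 : -(eOf c * D.p - D.p1) * -eOf c = D.p2 := by
    cases c <;> simp only [eOf, Bool.false_eq_true, if_false, if_true] at hrp ⊢ <;> omega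
  have hq2 : -(eOf c * D.q - D.q1) * -eOf c = D.q2 := by
    cases c <;> simp only [eOf, Bool.false_eq_true, if_false, if_true] at hrq ⊢ <;> omega
  simp only [resKill, List.all_eq_true] at hk
  have h1 := hk _ hP _ hQ
  rw [Bool.or_eq_true, Bool.not_eq_true'] at h1
  rcases h1 with h1 | h1
  · apply Bool.eq_false_iff.1 h1
    rw [beq_iff_eq]
    exact Int.emod_eq_zero_of_dvd hd
  · simp only [List.all_eq_true] at h1
    have h2 := h1 _ hP1 _ hQ1
    rw [Bool.or_eq_true, Bool.not_eq_true'] at h2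
    rcases h2 with h2 | h2
    · apply Bool.eq_false_iff.1 h2
      rw [beq_iff_eq]
      exact Int.emod_eq_zero_of_dvd (by omega)
    · rw [hp2, hq2, Bool.or_eq_true, Bool.not_eq_true', Bool.not_eq_true'] at h2
      rcases h2 with h2 | h2
      · apply Bool.eq_false_iff.1 h2
        rw [beq_iff_eq]
        exact Int.emod_eq_zero_of_dvd hy
      · apply Bool.eq_false_iff.1 h2
        simp only [Bool.and_eq_true, decide_eq_true_eq, beq_iff_eq]
        exact ⟨⟨hp, hq⟩, Int.emod_eq_zero_of_dvd hc⟩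

/-- The multiplier of values proportional to `a`, `b`, `c`. -/
theorem proportional {az bz cz u v w a b c g d x y : ℤ} (hg : g ≠ 0) (ha0 : a ≠ 0) (hd : d = g * a)
    (hx : x = g * b) (hy : y = g * c) (hbez : u * a + v * b + w * c = 1) (h1 : az * x = bz * d)
    (h2 : az * y = cz * d) : ∃ k, az = k * a ∧ bz = k * b ∧ cz = k * c := by
  subst hd hx hy
  have e1 : az * b = bz * a := mul_left_cancel₀ hg (by linear_combination h1)
  have e2 : az * c = cz * a := mul_left_cancel₀ hg (by linear_combination h2)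
  have e3 : bz * c = cz * b := mul_left_cancel₀ ha0 (by linear_combination b * e2 - c * e1)
  exact ⟨u * az + v * bz + w * cz, by linear_combination -az * hbez + v * e1 + w * e2,
    by linear_combination -bz * hbez - u * e1 + w * e3,
    by linear_combination -cz * hbez - u * e2 - v * e3⟩

theorem mem_of_scaled {j A B : ℤ} {n : ℕ} (hA : 0 ≤ A) (h1 : j ^ 2 * A ≤ B)
    (h2 : B < ((n : ℤ) + 1) ^ 2 * A) : j ∈ sym n :=
  abs_le_of_sq (lt_of_mul_lt_mul_right (h1.trans_lt h2) hA)

theorem tKill_elim (c : Bool) {d x y : ℕ} {C : Cert} {az bz cz a b c' r j : ℤ}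
    (hk : tKill c d x y C az bz cz = true) (hd : 0 < d) (hj : j ∈ sym C.j0)
    (ha : a = (step d : ℤ) * j) (hr : r ∈ [(C.r : ℤ), -(C.r : ℤ)]) (hnum : r + a * x = b * d)
    (hc' : c' = if c then a + b else a - b) (m1 : (2048 : ℤ) ∣ d + 11 * az - 12 * a)
    (m2 : (2048 : ℤ) ∣ x + 11 * bz - 12 * b) (m3 : (2048 : ℤ) ∣ y + 11 * cz - 12 * c')
    (hb : 5 * a ^ 2 + b ^ 2 + c' ^ 2 ≤ (tOrder : ℤ))
    (v2 : (x : ℤ) ∣ b * ((jOrder / tOrder : ℕ) : ℤ))
    (v3 : (y : ℤ) ∣ c' * ((jOrder / tOrder : ℕ) : ℤ)) : False := by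
  subst ha
  simp only [tKill, List.all_eq_true] at hk
  have h1 := hk j hj
  rw [Bool.or_eq_true, Bool.not_eq_true'] at h1
  rcases h1 with h1 | h1
  · apply Bool.eq_false_iff.1 h1
    rw [beq_iff_eq]
    exact Int.emod_eq_zero_of_dvd m1
  · simp only [List.all_eq_true] at h1
    have h := h1 r hr
    rw [hnum, Bool.or_eq_true, Bool.not_eq_true'] at h
    rcases h with h | h
    · apply Bool.eq_false_iff.1 h
      rw [beq_iff_eq, Int.mul_emod_left]
    · rw [Int.mul_ediv_cancel _ (Int.natCast_ne_zero.2 hd.ne'), ← hc', Bool.not_eq_true'] at h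
      apply Bool.eq_false_iff.1 h
      simp only [Bool.and_eq_true, beq_iff_eq, decide_eq_true_eq]
      exact ⟨⟨⟨⟨Int.emod_eq_zero_of_dvd m2, Int.emod_eq_zero_of_dvd m3⟩, hb⟩,
        Int.emod_eq_zero_of_dvd v2⟩, Int.emod_eq_zero_of_dvd v3⟩

theorem kill_values (D : Degrees) (c : Bool) (he : D.e = eOf c) (hsx : D.sx = -1)
    (hsy : D.sy = -eOf c) (hdpos : 0 < D.d) (C : Cert)
    (hr : C.r = (D.bt * D.y - D.ct * D.x).natAbs) (ha : D.d = C.g * C.a) (hb : D.x = C.g * C.b)
    (hc : D.y = C.g * C.c) (hbez : C.u * C.a + C.v * C.b + C.w * C.c = 1)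
    (hk0 : zOrder < (C.k0 + 1) * (C.k0 + 1) * (5 * C.a * C.a + C.b * C.b + C.c * C.c))
    (hj0 : tOrder < 5 * ((C.j0 + 1) * step D.d) * ((C.j0 + 1) * step D.d))
    (hall : ∀ k ∈ sym C.k0, zOK D.d D.x D.y (k * C.a) (k * C.b) (k * C.c) = false ∨
      tKill c D.d D.x D.y C (k * C.a) (k * C.b) (k * C.c) = true) : False := by
  have hg : C.g ≠ 0 := by rintro h; rw [h, zero_mul] at ha; omega
  have haN : C.a ≠ 0 := by rintro h; rw [h, mul_zero] at ha; omega
  obtain ⟨k, ka, kb, kc⟩ := proportional (g := (C.g : ℤ)) (by exact_mod_cast hg)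
    (by exact_mod_cast haN) (by exact_mod_cast ha) (by exact_mod_cast hb) (by exact_mod_cast hc) hbez
    D.z_prop_x D.z_prop_y
  have hk : k ∈ sym C.k0 := by
    refine mem_of_scaled (A := 5 * (C.a : ℤ) * C.a + C.b * C.b + C.c * C.c) (B := (zOrder : ℤ))
      (by positivity) ?_ (by rw [pow_two]; exact_mod_cast hk0)
    have := D.z_bound
    rw [ka, kb, kc] at this
    linear_combination this
  rcases hall k hk with hz | ht
  · apply Bool.eq_false_iff.1 hz
    simp only [zOK, Bool.and_eq_true, beq_iff_eq, ← ka, ← kb, ← kc]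
    exact ⟨⟨⟨⟨⟨Int.emod_eq_zero_of_dvd D.z_mod_d, Int.emod_eq_zero_of_dvd D.z_mod_x⟩,
      Int.emod_eq_zero_of_dvd D.z_mod_y⟩, Int.emod_eq_zero_of_dvd D.z_dvd_d⟩,
      Int.emod_eq_zero_of_dvd D.z_dvd_x⟩, Int.emod_eq_zero_of_dvd D.z_dvd_y⟩
  · rw [← ka, ← kb, ← kc] at ht
    obtain ⟨j, hj⟩ := step_dvd hdpos D.t_dvd_d
    have hjmem : j ∈ sym C.j0 := by
      refine mem_of_scaled (A := 5 * (step D.d : ℤ) ^ 2) (B := (tOrder : ℤ)) (by positivity) ?_ ?_
      · have h := D.t_bound
        rw [hj] at h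
        have h1 := sq_nonneg D.bt
        have h2 := sq_nonneg D.ct
        linarith
      · have h : (tOrder : ℤ) <
            5 * (((C.j0 : ℤ) + 1) * step D.d) * (((C.j0 : ℤ) + 1) * step D.d) := by
          exact_mod_cast hj0
        linear_combination h
    have hlin := D.t_lin
    have hdeg := D.degree
    rw [he, hsx, hsy] at hlin hdeg
    have hct : D.ct = if c then D.at' + D.bt else D.at' - D.bt := by
      cases c <;> simp only [eOf, Bool.false_eq_true, if_false, if_true] at hlin ⊢ <;> linarith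
    refine tKill_elim c ht hdpos hjmem hj (r := D.bt * D.y - D.ct * D.x) ?_ ?_ hct D.t_mod_d
      D.t_mod_x D.t_mod_y D.t_bound D.t_dvd_x D.t_dvd_y
    · rw [hr]
      rcases Int.natAbs_eq (D.bt * D.y - D.ct * D.x) with h | h
      · exact List.mem_cons.2 (Or.inl h)
      · exact List.mem_cons.2 (Or.inr (List.mem_singleton.2 h))
    · rw [hct]
      cases c
      · simp only [eOf, Bool.false_eq_true, if_false] at hdeg ⊢
        linear_combination -D.bt * hdeg
      · simp only [eOf, if_true] at hdeg ⊢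
        linear_combination D.bt * hdeg

set_option maxHeartbeats 800000 in
theorem no_normal (D : Degrees) (c : Bool) (he : D.e = eOf c) (hsx : D.sx = -1) (hsy : D.sy = -eOf c)
    (hle : c = false → D.x ≤ D.y) : False := by
  have hJ : jOrder ≠ 0 := by decide
  have hdpos : 0 < D.d := Nat.pos_of_dvd_of_pos D.dvd_d (Nat.pos_of_ne_zero hJ)
  have hy : D.y = third c D.d D.x := by
    have := D.degree
    rw [he, hsx, hsy] at this
    cases c <;> simp [third, eOf] at this ⊢ <;> omega
  have hp := D.bound_p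
  have hq := D.bound_q
  have hP : D.p ∈ sym 7 := abs_le_of_sq (by push_cast; nlinarith)
  have hQ : D.q ∈ sym 2 := abs_le_of_sq (by push_cast; nlinarith)
  have hP1 : D.p1 ∈ sym 15 := abs_le_of_sq (by push_cast; nlinarith)
  have hQ1 : D.q1 ∈ sym 5 := abs_le_of_sq (by push_cast; nlinarith)
  have hP2 : D.p2 ∈ sym 15 := abs_le_of_sq (by push_cast; nlinarith)
  have hQ2 : D.q2 ∈ sym 5 := abs_le_of_sq (by push_cast; nlinarith)
  have hbd : (if c then bit maskDm D.d else bit maskDp D.d) = true := by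
    have h := D.res_d
    rw [he] at h
    cases c
    · refine table_bit table_Dp hP hQ ?_ (by simp only [eOf, Bool.false_eq_true, if_false] at h; omega)
      simp only [Bool.and_eq_true, decide_eq_true_eq]
      rw [he] at hp hq
      simp only [eOf, Bool.false_eq_true, if_false] at hp hq
      constructor <;> nlinarith
    · refine table_bit table_Dm hP hQ ?_ (by simp only [eOf, if_true] at h; omega)
      simp only [Bool.and_eq_true, decide_eq_true_eq]
      rw [he] at hp hq
      simp only [eOf, if_true] at hp hq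
      constructor <;> nlinarith
  have hbx : bit maskUm D.x = true := by
    have h := D.res_x
    rw [hsx] at h
    exact table_bit table_Um hP1 hQ1 rfl (by omega)
  have hby : bit (if c then maskUp else maskUm) D.y = true := by
    have h := D.res_y
    rw [hsy] at h
    cases c
    · exact table_bit table_Um hP2 hQ2 rfl (by simp only [eOf, Bool.false_eq_true, if_false] at h; omega)
    · exact table_bit table_Up hP2 hQ2 rfl (by simp only [eOf, if_true] at h; omega)
  have s23d := sqm_le (q := 23) (by norm_num) D.mod23_d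
  have s23x := sqm_le (q := 23) (by norm_num) D.mod23_x
  have s23y := sqm_le (q := 23) (by norm_num) D.mod23_y
  have s29d := sqm_le (q := 29) (by norm_num) D.mod29_d
  have s29x := sqm_le (q := 29) (by norm_num) D.mod29_x
  have s29y := sqm_le (q := 29) (by norm_num) D.mod29_y
  have b23 := D.bound23
  have b29 := D.bound29
  have hsum : 5 * D.d * D.d + D.x * D.x + D.y * D.y ≤ jOrder := by
    simpa only [pow_two, mul_assoc] using D.squares
  have s37 : sqm 37 (3 * D.d) ≤ 66 := by
    have h := D.mod37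
    have h2 := sqm_le (q := 37) (n := 3 * D.d) (a := D.m37) (by norm_num) (by push_cast; omega)
    have h3 : D.m37 ^ 2 ≤ 66 := by have := D.bound37; nlinarith
    exact_mod_cast h2.trans h3
  have hD : D.d ∈ degD := by
    have h := div_check degD_ok D.dvd_d
    have hc : condD D.d = true := by
      simp only [condD, Bool.and_eq_true, Bool.or_eq_true, Nat.ble_eq]
      refine ⟨?_, by omega, by omega, by omega, s37⟩
      cases c
      · exact Or.inl hbd
      · exact Or.inr hbd
    rw [hc] at h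
    simpa using h
  have hX : D.x ∈ degU := by
    have h := div_check degU_ok D.dvd_x
    have hc : condU D.x = true := by
      simp only [condU, Bool.and_eq_true, Nat.ble_eq, Nat.blt_eq]
      exact ⟨hbx, D.one_lt_x, by omega, by omega, by omega⟩
    rw [hc] at h
    simpa using h
  have hsq : (D.bt * D.y - D.ct * D.x).natAbs ^ 2 * 32897107 = 2 ^ 17 * 105 * D.d * D.x * D.y := by
    have h := congrArg Int.natAbs D.t_square
    rw [Int.natAbs_mul, Int.natAbs_pow] at h
    simp only [Int.natAbs_mul, Int.natAbs_natCast] at h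
    exact h
  have hcond : condPair c D.d D.x = true := by
    simp only [condPair, ← hy, Bool.and_eq_true, Nat.ble_eq, Nat.blt_eq, beq_iff_eq]
    refine ⟨by linarith [D.one_lt_y], Nat.mod_eq_zero_of_dvd D.dvd_y, ?_,
      hsum, by omega, by omega, ?_⟩
    · cases c
      · simp only [Bool.false_eq_true, if_false, Bool.and_eq_true, Nat.ble_eq]
        exact ⟨hbd, hle rfl, hby⟩
      · simp only [if_true, Bool.and_eq_true]
        exact ⟨hbd, hby⟩
    · rw [← hsq]
      exact Nat.mul_mod_left _ _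
  obtain ⟨C, hC⟩ := zip_mem certs_len (pairs_spec hD hX hcond)
  have hk := certs_ok
  rw [List.all_eq_true] at hk
  have hkill := hk _ hC
  simp only [killOK, ← hy] at hkill
  rw [← hsq, Nat.mul_div_cancel _ (by norm_num : 0 < 32897107)] at hkill
  generalize hS : (D.bt * D.y - D.ct * D.x).natAbs = S at hkill
  split at hkill
  · simp only [Bool.and_eq_true, Nat.blt_eq] at hkill
    exact kill_square hkill.1 hkill.2
  · simp only [Bool.and_eq_true, beq_iff_eq, decide_eq_true_eq, Nat.blt_eq, List.all_eq_true,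
      Bool.or_eq_true, Bool.not_eq_true'] at hkill
    obtain ⟨⟨⟨⟨⟨hr, ⟨ha, hb⟩, hc'⟩, hbez⟩, hk0⟩, hj0⟩, hall⟩ := hkill
    rw [← pow_two] at hr
    exact kill_values D c he hsx hsy hdpos C ((Nat.pow_left_injective two_ne_zero hr).trans hS.symm)
      ha hb hc' hbez hk0 hj0 hall
  · exact kill_res D c he hsx hsy hP hQ hP1 hQ1 hkill

/-- The numbers required by the abelian case do not exist. -/
theorem no_degrees (D : Degrees) : False := by
  rcases D.sign_e with he | he <;> rcases D.sign_x with hx | hx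
  · have hy : D.sy = 1 := by have := D.t_sign; rw [he, hx] at this; linarith
    have := D.degree
    rw [he, hx, hy] at this
    have := D.one_lt_x
    omega
  · have hy : D.sy = -1 := by have := D.t_sign; rw [he, hx] at this; linarith
    by_cases h : D.x ≤ D.y
    · exact no_normal D false he hx hy fun _ => h
    · exact no_normal D.swap false he hy hx fun _ => (le_of_not_ge h)
  · have hy : D.sy = -1 := by have := D.t_sign; rw [he, hx] at this; linarith
    exact no_normal D.swap true he hy hx fun h => absurd h (by decide)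
  · have hy : D.sy = 1 := by have := D.t_sign; rw [he, hx] at this; linarith
    exact no_normal D true he hx hy fun h => absurd h (by decide)

end CfsgLib.J4Type.Eleven
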