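import Cfsg.Agent.Lib.J4Type.Eleven.ArithData
import Cfsg.Agent.Lib.J4Type.Eleven.Interface

/-!
The kernel checks for the numerical refutation of the abelian case.
-/

set_option autoImplicit false
set_option maxRecDepth 100000

namespace CfsgLib.J4Type.Eleven

/-- Run a predicate over all divisors given by their prime powers. -/
def allDiv : List (ℕ × ℕ) → ℕ → (ℕ → Bool) → Bool
  | [], acc, f => f acc
  | (p, e) :: l, acc, f => (List.range (e + 1)).all fun i => allDiv l (acc * p ^ i) f

/-- The prime powers of the order. -/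
def jPrimes : List (ℕ × ℕ) :=
  [(2, 21), (3, 3), (5, 1), (7, 1), (11, 3), (23, 1), (29, 1), (31, 1), (37, 1), (43, 1)]

/-- The least square in the residue class. -/
def sqm (q d : ℕ) : ℕ := min (d % q) (q - d % q) ^ 2

/-- Bit of a mask at a residue modulo 1331. -/
def bit (m d : ℕ) : Bool := Nat.testBit m (d % 1331)

/-- Condition on the common degree. -/
def condD (d : ℕ) : Bool :=
  (bit maskDp d || bit maskDm d) && (Nat.ble (5 * d * d) jOrder &&
    (Nat.ble (5 * sqm 23 d) 22 && (Nat.ble (5 * sqm 29 d) 28 && Nat.ble (sqm 37 (3 * d)) 66)))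

/-- Condition on a further degree. -/
def condU (x : ℕ) : Bool :=
  bit maskUm x && (Nat.blt 1 x && (Nat.ble (x * x) jOrder &&
    (Nat.ble (sqm 23 x) 22 && Nat.ble (sqm 29 x) 28)))

theorem degD_ok : allDiv jPrimes 1 (fun d => !condD d || degD.elem d) = true := by
  decide +kernel

theorem degU_ok : allDiv jPrimes 1 (fun x => !condU x || degU.elem x) = true := by
  decide +kernel

/-- The third degree. -/
def third (c : Bool) (d x : ℕ) : ℕ := if c then d + x else d - x

/-- Condition on a pair of degrees. -/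
def condPair (c : Bool) (d x : ℕ) : Bool :=
  let y := third c d x
  Nat.blt 0 y && (jOrder % y == 0 &&
    ((if c then bit maskDm d && bit maskUp y else bit maskDp d && (Nat.ble x y && bit maskUm y)) &&
      (Nat.ble (5 * d * d + x * x + y * y) jOrder &&
        (Nat.ble (5 * sqm 23 d + sqm 23 x + sqm 23 y) 22 &&
          (Nat.ble (5 * sqm 29 d + sqm 29 x + sqm 29 y) 28 &&
            (2 ^ 17 * 105 * d * x * y) % 32897107 == 0)))))

/-- All pairs passing the conditions are listed. -/
def pairsOK (l : List ℕ) : Bool :=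
  l.all fun d => degU.all fun x =>
    (!condPair false d x || pairCand.elem (false, d, x)) &&
      (!condPair true d x || pairCand.elem (true, d, x))

theorem pairs_ok1 : pairsOK (degD.take 100) = true := by decide +kernel
theorem pairs_ok2 : pairsOK ((degD.drop 100).take 100) = true := by decide +kernel
theorem pairs_ok3 : pairsOK (degD.drop 200) = true := by decide +kernel

/-- The integers between `-n` and `n`. -/
def sym (n : ℕ) : List ℤ := (List.range (2 * n + 1)).map fun i => (i : ℤ) - n

/-- The sign attached to a case. -/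
def eOf (c : Bool) : ℤ := if c then -1 else 1

/-- No residues exist. -/
def resKill (c : Bool) (d x y : ℕ) : Bool :=
  let e := eOf c
  let sy := - e
  (sym 7).all fun p => (sym 2).all fun q =>
    !(((d : ℤ) - 240 * e - p - 10 * q) % 1331 == 0) ||
      ((sym 15).all fun p1 => (sym 5).all fun q1 =>
        !(((x : ℤ) - 120 - p1 - 10 * q1) % 1331 == 0) ||
          let p2 := -(e * p - p1) * sy
          let q2 := -(e * q - q1) * sy
          !(((y : ℤ) + 120 * sy - p2 - 10 * q2) % 1331 == 0) ||
            !(decide (4 * p ^ 2 + (p - e) ^ 2 + p1 ^ 2 + p2 ^ 2 ≤ 240) &&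
              decide (4 * q ^ 2 + (q - e) ^ 2 + q1 ^ 2 + q2 ^ 2 ≤ 25) &&
              (10 * ((jOrder / 31944 : ℕ) : ℤ) * (p - q - 24 * e)) % (d : ℤ) == 0))

/-- Values at the central involution are possible. -/
def zOK (d x y : ℕ) (az bz cz : ℤ) : Bool :=
  ((d : ℤ) - az) % 128 == 0 && ((x : ℤ) - bz) % 128 == 0 && ((y : ℤ) - cz) % 128 == 0 &&
    az * ((jOrder / zOrder : ℕ) : ℤ) % (d : ℤ) == 0 && bz * ((jOrder / zOrder : ℕ) : ℤ) % (x : ℤ) == 0 &&
    cz * ((jOrder / zOrder : ℕ) : ℤ) % (y : ℤ) == 0

/-- The step of the value at the second involution. -/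
def step (d : ℕ) : ℕ := d / Nat.gcd d (jOrder / tOrder)

/-- No values at the second involution fit. -/
def tKill (c : Bool) (d x y : ℕ) (C : Cert) (az bz cz : ℤ) : Bool :=
  (sym C.j0).all fun j =>
    let a := (step d : ℤ) * j
    !(((d : ℤ) + 11 * az - 12 * a) % 2048 == 0) ||
      [(C.r : ℤ), -(C.r : ℤ)].all fun r =>
        !((r + a * x) % (d : ℤ) == 0) ||
          let b := (r + a * x) / (d : ℤ)
          let c' := if c then a + b else a - b
          !(((x : ℤ) + 11 * bz - 12 * b) % 2048 == 0 && ((y : ℤ) + 11 * cz - 12 * c') % 2048 == 0 &&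
            decide (5 * a ^ 2 + b ^ 2 + c' ^ 2 ≤ (tOrder : ℤ)) &&
            b * ((jOrder / tOrder : ℕ) : ℤ) % (x : ℤ) == 0 &&
            c' * ((jOrder / tOrder : ℕ) : ℤ) % (y : ℤ) == 0)

/-- A certificate kills a pair. -/
def killOK (c : Bool) (d x : ℕ) (C : Cert) : Bool :=
  let y := third c d x
  let m := 2 ^ 17 * 105 * d * x * y / 32897107
  match C.kind with
  | 0 => Nat.blt (C.r * C.r) m && Nat.blt m ((C.r + 1) * (C.r + 1))
  | 1 => C.r * C.r == m && (d == C.g * C.a && x == C.g * C.b && y == C.g * C.c) &&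
      decide (C.u * C.a + C.v * C.b + C.w * C.c = 1) &&
      Nat.blt zOrder ((C.k0 + 1) * (C.k0 + 1) * (5 * C.a * C.a + C.b * C.b + C.c * C.c)) &&
      Nat.blt tOrder (5 * ((C.j0 + 1) * step d) * ((C.j0 + 1) * step d)) &&
      (sym C.k0).all fun k =>
        !(zOK d x y (k * C.a) (k * C.b) (k * C.c)) || tKill c d x y C (k * C.a) (k * C.b) (k * C.c)
  | _ => resKill c d x y

theorem certs_len : pairCand.length = certs.length := by decide +kernel

theorem certs_ok : ((pairCand.zip certs).all fun p => killOK p.1.1 p.1.2.1 p.1.2.2 p.2) = true := by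
  decide +kernel

end CfsgLib.J4Type.Eleven
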