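import Cfsg.Agent.Lib.J4Type.Eleven.Interface
import Cfsg.Agent.Lib.Char.Linear

/-!
The linear characters of the abelian Sylow subgroup and their orbits under its normaliser.
-/

set_option autoImplicit false

universe u

namespace CfsgLib.J4Type.Eleven

open Subgroup

variable {G : Type u} [Group G] [Finite G] {z t : G}

namespace AbData

variable (D : AbData z t)

/-- The normaliser. -/
abbrev N : Subgroup G := normalizer (D.S : Set G)

/-- The linear characters of the Sylow subgroup. -/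
abbrev Lin : Type u := ↥D.S →* ℂˣ

theorem S_le_N : D.S ≤ D.N := Subgroup.le_normalizer

theorem conj_mem_S {x : G} (hx : x ∈ D.N) {s : G} (hs : s ∈ D.S) : x⁻¹ * s * x ∈ D.S := by
  have h := (mem_normalizer_iff.1 (inv_mem hx) s).1 hs
  rwa [inv_inv] at h

/-- Conjugation as an endomorphism of the Sylow subgroup. -/
def cj (x : D.N) : ↥D.S →* ↥D.S :=
  MonoidHom.mk' (fun s => ⟨(x : G)⁻¹ * s * x, D.conj_mem_S x.2 s.2⟩) fun a b => Subtype.ext (by
    simp only [Subgroup.coe_mul]; group)

/-- The action on linear characters. -/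
def act (x : D.N) (l : D.Lin) : D.Lin := l.comp (D.cj x)

theorem act_apply (x : D.N) (l : D.Lin) (s : D.S) :
    D.act x l s = l ⟨(x : G)⁻¹ * s * x, D.conj_mem_S x.2 s.2⟩ := rfl

theorem act_one (l : D.Lin) : D.act 1 l = l :=
  MonoidHom.ext fun s => congrArg l (Subtype.ext (by simp [cj]))

theorem act_mul (x y : D.N) (l : D.Lin) : D.act (x * y) l = D.act x (D.act y l) :=
  MonoidHom.ext fun s => congrArg l (Subtype.ext (by simp [cj, mul_assoc]))

theorem act_inv_act (x : D.N) (l : D.Lin) : D.act x⁻¹ (D.act x l) = l := by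
  rw [← act_mul, inv_mul_cancel, act_one]

/-- The stabiliser of a linear character. -/
def stab (l : D.Lin) : Subgroup D.N where
  carrier := {x | D.act x l = l}
  one_mem' := D.act_one l
  mul_mem' {a b} ha hb := by
    show D.act (a * b) l = l
    rw [D.act_mul, hb, ha]
  inv_mem' {a} ha := by
    show D.act a⁻¹ l = l
    conv_lhs => rw [← ha]
    exact D.act_inv_act a l

theorem mem_stab {x : D.N} {l : D.Lin} : x ∈ D.stab l ↔ D.act x l = l := Iff.rfl

/-- The number of elements of the normaliser carrying one character to another. -/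
noncomputable def trans (l m : D.Lin) : ℕ := Nat.card {x : D.N // D.act x m = l}

theorem trans_self (l : D.Lin) : D.trans l l = Nat.card (D.stab l) := rfl

theorem trans_eq_zero {l m : D.Lin} (h : ∀ x : D.N, D.act x m ≠ l) : D.trans l m = 0 := by
  haveI : IsEmpty {x : D.N // D.act x m = l} := ⟨fun x => h x.1 x.2⟩
  exact Nat.card_of_isEmpty

theorem finite_lin : Finite D.Lin := by
  haveI : IsMulCommutative D.S := ⟨⟨fun a b => Subtype.ext (D.comm a a.2 b b.2)⟩⟩
  refine Nat.finite_of_card_ne_zero ?_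
  rw [CfsgLib.Char.natCard_linear]
  exact Subgroup.index_ne_zero_of_finite

noncomputable instance : Fintype D.Lin :=
  have := D.finite_lin
  Fintype.ofFinite _

open scoped Classical in
/-- The orbit of a linear character. -/
noncomputable def orbit (l : D.Lin) : Finset D.Lin :=
  (Set.toFinite (Set.range fun x : D.N => D.act x l)).toFinset

theorem mem_orbit {l m : D.Lin} : m ∈ D.orbit l ↔ ∃ x : D.N, D.act x l = m := by
  simp [orbit]

theorem card_orbit_mul (l : D.Lin) : (D.orbit l).card * Nat.card (D.stab l) = 319440 := by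
  classical
  have := Fintype.ofFinite D.N
  have hN : (Finset.univ : Finset D.N).card = 319440 := by
    rw [Finset.card_univ, ← Nat.card_eq_fintype_card]
    exact D.card_N
  have ho : D.orbit l = Finset.univ.image fun x => D.act x l := by
    ext m; simp [orbit]
  rw [← hN, ho, ← smul_eq_mul, ← Finset.sum_const,
    Finset.card_eq_sum_card_image (fun x => D.act x l) Finset.univ]
  refine Finset.sum_congr rfl fun m hm => ?_
  obtain ⟨x₀, -, rfl⟩ := Finset.mem_image.1 hm
  rw [Nat.card_eq_fintype_card, ← Finset.card_univ]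
  refine Finset.card_bij (fun a _ => x₀ * (a : D.N)) ?_ ?_ ?_
  · intro a _
    rw [Finset.mem_filter, D.act_mul, D.mem_stab.1 a.2]
    exact ⟨Finset.mem_univ _, rfl⟩
  · intro a _ b _ h
    exact Subtype.ext (mul_left_cancel h)
  · intro y hy
    refine ⟨⟨x₀⁻¹ * y, ?_⟩, Finset.mem_univ _, mul_inv_cancel_left x₀ y⟩
    rw [mem_stab, D.act_mul, (Finset.mem_filter.1 hy).2, D.act_inv_act]

/-- The product map from the two parts. -/
def prodHom : ↥D.X × ↥D.W →* ↥D.S :=
  MonoidHom.mk' (fun a => ⟨(a.1 : G) * a.2, mul_mem (D.X_le a.1.2) (D.W_le a.2.2)⟩) fun a b =>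
    Subtype.ext (by
      simp only [Prod.fst_mul, Prod.snd_mul, Subgroup.coe_mul]
      calc (a.1 : G) * b.1 * (a.2 * b.2) = a.1 * (b.1 * a.2) * b.2 := by group
        _ = a.1 * (a.2 * b.1) * b.2 := by rw [D.comm b.1 (D.X_le b.1.2) a.2 (D.W_le a.2.2)]
        _ = a.1 * a.2 * (b.1 * b.2) := by group)

theorem prodHom_bijective : Function.Bijective D.prodHom := by
  rw [Nat.bijective_iff_injective_and_card]
  refine ⟨?_, by rw [Nat.card_prod, D.card_X, D.card_W, D.card_S]; norm_num⟩
  rw [← MonoidHom.ker_eq_bot_iff, eq_bot_iff]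
  rintro ⟨a, b⟩ h
  have h' : (a : G) * b = 1 := congrArg Subtype.val h
  have ha : (a : G) ∈ D.X ⊓ D.W := ⟨a.2, show (a : G) ∈ D.W by
    rw [eq_inv_of_mul_eq_one_left h']; exact inv_mem b.2⟩
  rw [D.disjoint, mem_bot] at ha
  rw [ha, one_mul] at h'
  exact mem_bot.2 (Prod.ext (Subtype.ext ha) (Subtype.ext h'))

/-- The splitting. -/
noncomputable def prodEquiv : ↥D.X × ↥D.W ≃* ↥D.S :=
  MulEquiv.ofBijective D.prodHom D.prodHom_bijective

theorem prodEquiv_val (a : D.X) (b : D.W) : (D.prodEquiv (a, b) : G) = a * b := rfl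

/-- The restriction to the fixed part. -/
def resX (l : D.Lin) : ↥D.X →* ℂˣ := l.comp (Subgroup.inclusion D.X_le)

/-- The restriction to the inverted part. -/
def resW (l : D.Lin) : ↥D.W →* ℂˣ := l.comp (Subgroup.inclusion D.W_le)

theorem lin_ext {l m : D.Lin} (h1 : D.resX l = D.resX m) (h2 : D.resW l = D.resW m) : l = m := by
  refine MonoidHom.ext fun s => ?_
  obtain ⟨⟨a, b⟩, rfl⟩ := D.prodEquiv.surjective s
  have e : D.prodEquiv (a, b) = Subgroup.inclusion D.X_le a * Subgroup.inclusion D.W_le b :=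
    Subtype.ext rfl
  rw [e, map_mul, map_mul]
  exact congrArg₂ (· * ·) (DFunLike.congr_fun h1 a) (DFunLike.congr_fun h2 b)

theorem exists_lin (f : ↥D.X →* ℂˣ) (g : ↥D.W →* ℂˣ) :
    ∃ l : D.Lin, D.resX l = f ∧ D.resW l = g := by
  refine ⟨((f.comp (MonoidHom.fst _ _)) * (g.comp (MonoidHom.snd _ _))).comp
    D.prodEquiv.symm.toMonoidHom, ?_, ?_⟩ <;> refine MonoidHom.ext fun a => ?_
  · have e : D.prodEquiv.symm (Subgroup.inclusion D.X_le a) = (a, 1) :=
      D.prodEquiv.symm_apply_eq.2 (Subtype.ext (by simp [prodEquiv_val]))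
    simp [resX, e]
  · have e : D.prodEquiv.symm (Subgroup.inclusion D.W_le a) = (1, a) :=
      D.prodEquiv.symm_apply_eq.2 (Subtype.ext (by simp [prodEquiv_val]))
    simp [resW, e]

/-- Pairs of restrictions. -/
noncomputable def linEquiv : D.Lin ≃ (↥D.X →* ℂˣ) × (↥D.W →* ℂˣ) :=
  Equiv.ofBijective (fun l => (D.resX l, D.resW l))
    ⟨fun l m h => D.lin_ext (congrArg Prod.fst h) (congrArg Prod.snd h), fun p => by
      obtain ⟨l, h1, h2⟩ := D.exists_lin p.1 p.2
      exact ⟨l, Prod.ext h1 h2⟩⟩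

theorem comm_X : IsMulCommutative D.X :=
  ⟨⟨fun a b => Subtype.ext (D.comm a (D.X_le a.2) b (D.X_le b.2))⟩⟩

theorem comm_W : IsMulCommutative D.W :=
  ⟨⟨fun a b => Subtype.ext (D.comm a (D.W_le a.2) b (D.W_le b.2))⟩⟩

theorem card_dual {H : Subgroup G} (h : IsMulCommutative H) :
    Nat.card (↥H →* ℂˣ) = Nat.card H := by
  rw [CfsgLib.Char.natCard_linear]
  have : commutator ↥H = ⊥ := by
    rw [commutator_def, Subgroup.commutator_eq_bot_iff_le_centralizer]
    exact fun a _ => Subgroup.mem_centralizer_iff.2 fun b _ => h.is_comm.comm b a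
  rw [this, Subgroup.index_bot]

/-- The characters trivial on the inverted part only. -/
def IsX (l : D.Lin) : Prop := D.resW l = 1 ∧ D.resX l ≠ 1

/-- The characters trivial on the fixed part only. -/
def IsW (l : D.Lin) : Prop := D.resX l = 1 ∧ D.resW l ≠ 1

/-- The characters trivial on neither part. -/
def IsFree (l : D.Lin) : Prop := D.resX l ≠ 1 ∧ D.resW l ≠ 1

theorem cases_lin (l : D.Lin) : l = 1 ∨ D.IsX l ∨ D.IsW l ∨ D.IsFree l := by
  by_cases h1 : D.resX l = 1 <;> by_cases h2 : D.resW l = 1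
  · exact .inl (D.lin_ext (h1.trans rfl) (h2.trans rfl))
  · exact .inr (.inr (.inl ⟨h1, h2⟩))
  · exact .inr (.inl ⟨h2, h1⟩)
  · exact .inr (.inr (.inr ⟨h1, h2⟩))

theorem card_types :
    Nat.card {l : D.Lin // D.IsX l} = 10 ∧ Nat.card {l : D.Lin // D.IsW l} = 120 ∧
      Nat.card {l : D.Lin // D.IsFree l} = 1200 := by
  classical
  have hX := card_dual D.comm_X
  have hW := card_dual D.comm_W
  rw [D.card_X] at hX
  rw [D.card_W] at hW
  haveI : Finite (↥D.X →* ℂˣ) := Nat.finite_of_card_ne_zero (by omega)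
  haveI : Finite (↥D.W →* ℂˣ) := Nat.finite_of_card_ne_zero (by omega)
  have := Fintype.ofFinite (↥D.X →* ℂˣ)
  have := Fintype.ofFinite (↥D.W →* ℂˣ)
  rw [Nat.card_eq_fintype_card] at hX hW
  have key : ∀ (P : (↥D.X →* ℂˣ) → Prop) (Q : (↥D.W →* ℂˣ) → Prop),
      Nat.card {l : D.Lin // P (D.resX l) ∧ Q (D.resW l)} =
        Nat.card {a // P a} * Nat.card {b // Q b} := fun P Q => by
    rw [← Nat.card_prod]
    exact Nat.card_congr ((D.linEquiv.subtypeEquiv (fun l => Iff.rfl)).trans
      (Equiv.subtypeProdEquivProd (p := P) (q := Q)))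
  have one : ∀ {α : Type u} [One α], Nat.card {a : α // a = 1} = 1 := fun {α} _ =>
    Nat.card_eq_one_iff_unique.2 ⟨⟨fun a b => Subtype.ext (a.2.trans b.2.symm)⟩, ⟨⟨1, rfl⟩⟩⟩
  have ne : ∀ {α : Type u} [One α] [Fintype α],
      Nat.card {a : α // a ≠ 1} = Fintype.card α - 1 := fun {α} _ _ => by
    rw [Nat.card_eq_fintype_card, Fintype.card_subtype_compl, Fintype.card_subtype_eq]
  refine ⟨?_, ?_, ?_⟩
  · have := key (· ≠ 1) (· = 1)
    rw [one, ne, hX, mul_one] at this
    exact (Nat.card_congr (Equiv.subtypeEquivRight fun l => and_comm)).trans this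
  · have := key (· = 1) (· ≠ 1)
    rw [one, ne, hW, one_mul] at this
    exact this
  · have := key (· ≠ 1) (· ≠ 1)
    rw [ne, ne, hX, hW] at this
    exact this

end AbData

end CfsgLib.J4Type.Eleven
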