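import Cfsg.Agent.Lib.J4Type.Eleven.CharFamily
import Cfsg.Agent.Lib.Char.Linear
import Cfsg.Agent.Lib.Char.Integral

/-!
General consequences for the exceptional family: vanishing, degrees, centralised sums.
-/

set_option autoImplicit false
set_option linter.unusedSectionVars false

universe u

namespace CfsgLib.J4Type.Eleven

open Subgroup CfsgLib.Char
open scoped ComplexConjugate

variable {G : Type u} [Group G] [Fintype G] {z t : G}

namespace AbData

variable {D : AbData z t}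

theorem ind_vanish (a b : D.Lin) {g : G} (hg : ¬ 11 ∣ orderOf g) : D.ind a b g = 0 := by
  classical
  rw [ind, indFun_def, Finset.sum_eq_zero fun x _ => ?_, mul_zero]
  by_cases h : x⁻¹ * g * x ∈ D.S
  · rw [extendByZero_of_mem _ h]
    have h11 : orderOf (x⁻¹ * g * x) = orderOf g := by
      rw [show x⁻¹ * g * x = MulAut.conj x⁻¹ g by simp, MulEquiv.orderOf_eq]
    have hd : orderOf g ∣ 11 := h11 ▸ orderOf_dvd_of_pow_eq_one (D.pow_eleven _ h)
    have h1 : orderOf g = 1 :=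
      ((Nat.dvd_prime (by norm_num : Nat.Prime 11)).1 hd).resolve_right fun e => hg (e ▸ dvd_rfl)
    rw [orderOf_eq_one_iff] at h1
    subst h1
    rw [Pi.sub_apply, show (⟨x⁻¹ * 1 * x, h⟩ : D.S) = 1 from Subtype.ext (by simp), lf_one, lf_one,
      sub_self]
  · exact extendByZero_of_not_mem _ h

namespace Fam

variable (F : Fam D)

theorem e_ne : (F.e : ℂ) ≠ 0 := by
  rcases F.sign_e with h | h <;> simp [h]

theorem vals_eq (i : Fin 5) {g : G} (hg : ¬ 11 ∣ orderOf g) :
    (F.μ i : G → ℂ) g = (F.μ 0 : G → ℂ) g := by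
  have h := F.diff i g
  rw [ind_vanish _ _ hg, eq_comm, mul_eq_zero] at h
  exact sub_eq_zero.1 (h.resolve_left F.e_ne)

theorem lin_zero {g : G} (hg : ¬ 11 ∣ orderOf g) :
    F.e * (F.μ 0 : G → ℂ) g + F.sx * (F.X : G → ℂ) g + F.sy * (F.Y : G → ℂ) g = 0 := by
  rw [← F.expand, ind_vanish _ _ hg]

/-- A nonnegative sum dominates its part on the seven characters and the trivial one. -/
theorem sum_le [Fintype (Cfsg.IrrCharacter G)] {M : Type*} [AddCommMonoid M] [PartialOrder M]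
    [IsOrderedAddMonoid M] (f : Cfsg.IrrCharacter G → M) (hf : ∀ χ, 0 ≤ f χ) :
    (∑ i, f (F.μ i)) + f F.X + f F.Y + f (oneChar G) ≤ ∑ χ, f χ :=
  sum_eight F.μ F.μ_inj F.X_ne F.Y_ne F.μ_ne_one F.X_ne_Y F.X_ne_one F.Y_ne_one f hf

theorem squares : 5 * F.d ^ 2 + F.x ^ 2 + F.y ^ 2 ≤ jOrder := by
  have := Fintype.ofFinite (Cfsg.IrrCharacter G)
  choose n hn hn1 using fun χ : Cfsg.IrrCharacter G => irr_apply_one_pos χ.2
  have e : ∑ χ, n χ ^ 2 = jOrder := by
    have h := sum_irr_sq (G := G)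
    simp only [hn1, D.card_G] at h
    exact_mod_cast h
  have hμ : ∀ i, n (F.μ i) = F.d := fun i => by
    have h := hn1 (F.μ i); rw [F.deg_μ i] at h; exact_mod_cast h.symm
  have hX : n F.X = F.x := by have h := hn1 F.X; rw [F.deg_X] at h; exact_mod_cast h.symm
  have hY : n F.Y = F.y := by have h := hn1 F.Y; rw [F.deg_Y] at h; exact_mod_cast h.symm
  have h := F.sum_le (fun χ => n χ ^ 2) fun χ => Nat.zero_le _
  simp only [hμ, hX, hY, Finset.sum_const, Finset.card_univ, Fintype.card_fin, smul_eq_mul, e] at h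
  omega

include F in
theorem degree_dvd (χ : Cfsg.IrrCharacter G) {n : ℕ} (h : (χ : G → ℂ) 1 = n) : n ∣ jOrder := by
  obtain ⟨m, ρ, hρ, hc⟩ := χ.2
  rw [← hc, Representation.char_one, Nat.cast_inj] at h
  rw [← h, ← D.card_G]
  exact Char.degree_dvd_card ρ

theorem one_lt (hperf : commutator G = ⊤) (χ : Cfsg.IrrCharacter G) (hne : χ ≠ oneChar G) {n : ℕ}
    (h : (χ : G → ℂ) 1 = n) : 1 < n := by
  by_contra hle
  obtain ⟨m, hm, hm1⟩ := irr_apply_one_pos χ.2
  rw [hm1, Nat.cast_inj] at h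
  obtain ⟨lam, hlam⟩ := exists_hom_of_degree_one (irr_isCharacter χ.2)
    (show (χ : G → ℂ) 1 = 1 by rw [hm1, show m = 1 by omega]; simp)
  refine hne (Subtype.ext ?_)
  rw [hlam]
  funext g
  rw [linear_eq_one_of_mem_commutator lam (hperf ▸ mem_top g)]
  simp [oneChar]

theorem one_lt_x (hperf : commutator G = ⊤) : 1 < F.x := one_lt hperf _ F.X_ne_one F.deg_X

theorem one_lt_y (hperf : commutator G = ⊤) : 1 < F.y := one_lt hperf _ F.Y_ne_one F.deg_Y

theorem central_x :
    (F.d : ℤ) ∣ 10 * (jOrder / 31944 : ℕ) * (F.p - F.q - 24 * F.e) := by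
  classical
  obtain ⟨K, hK⟩ : ∃ K, jOrder / 31944 = K := ⟨_, rfl⟩
  rw [hK]
  have := Fintype.ofFinite D.X
  obtain ⟨m, ρ, hρ, hc⟩ := (F.μ 0).2
  have hd : (Module.finrank ℂ (Fin m → ℂ) : ℂ) = F.d := by
    rw [← F.deg_μ 0, ← hc, Representation.char_one]
  set s := (Set.toFinset (D.X : Set G)).erase 1 with hs
  have hidx : ∀ x ∈ s, (centralizer ({x} : Set G)).index = jOrder / 31944 := by
    intro x hx
    rw [hs, Finset.mem_erase, Set.mem_toFinset] at hx
    have h := (centralizer ({x} : Set G)).card_mul_index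
    rw [D.card_cent_X x hx.2 hx.1, D.card_G] at h
    rw [← h, Nat.mul_div_cancel_left _ (by norm_num)]
  simp only [hK] at hidx
  have hint : IsIntegral ℤ (((10 * (K : ℕ) * (F.p - F.q - 24 * F.e) : ℤ) : ℂ) /
      (F.d : ℂ)) := by
    have e : (((10 * (K : ℕ) * (F.p - F.q - 24 * F.e) : ℤ) : ℂ) / (F.d : ℂ)) =
        ∑ x ∈ s, ((centralizer ({x} : Set G)).index : ℂ) * ρ.character x / (F.d : ℂ) := by
      rw [← Finset.sum_div, Finset.sum_congr rfl (fun x hx => by rw [hidx x hx]), ← Finset.mul_sum]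
      have hsum : ∑ x ∈ s, ρ.character x =
          ((10 * (F.p - F.q - 24 * F.e) : ℤ) : ℂ) := by
        have h1 : (1 : G) ∈ Set.toFinset (D.X : Set G) := Set.mem_toFinset.2 D.X.one_mem
        have h := F.sum_X_μ
        rw [← hc, finsum_mem_eq_toFinset_sum, ← Finset.add_sum_erase _ _ h1, hc, F.deg_μ 0,
          ← hs, ← hc] at h
        push_cast at h ⊢
        linear_combination h
      rw [hsum]
      push_cast
      ring
    rw [e]
    refine IsIntegral.sum _ fun x _ => ?_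
    rw [← hd]
    exact centralChar_isIntegral ρ x
  have hd0 : F.d ≠ 0 := fun h => irr_apply_one_ne_zero (F.μ 0).2 (by rw [F.deg_μ, h, Nat.cast_zero])
  obtain ⟨k, hk⟩ := exists_int_of_isIntegral_rat
    (q := ((10 * (K : ℕ) * (F.p - F.q - 24 * F.e) : ℤ) : ℚ) / F.d)
    (by push_cast at hint ⊢; exact hint)
  rw [div_eq_iff (by exact_mod_cast hd0)] at hk
  exact ⟨k, by rw [mul_comm (F.d : ℤ)]; exact_mod_cast hk⟩

/-- The second orthogonality relation at an element, on the seven characters. -/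
theorem col_bound {g : G} (hg : ¬ 11 ∣ orderOf g) {a b c : ℤ} (ha : (F.μ 0 : G → ℂ) g = a)
    (hb : (F.X : G → ℂ) g = b) (hc : (F.Y : G → ℂ) g = c) :
    5 * a ^ 2 + b ^ 2 + c ^ 2 ≤ (Nat.card (centralizer ({g} : Set G)) : ℤ) := by
  have := Fintype.ofFinite (Cfsg.IrrCharacter G)
  have e : ∑ χ : Cfsg.IrrCharacter G, ‖(χ : G → ℂ) g‖ ^ 2 =
      (Nat.card (centralizer ({g} : Set G)) : ℝ) := by
    have h := column_orthogonality g g
    rw [if_pos (IsConj.refl g)] at h
    simp only [Complex.mul_conj'] at h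
    exact_mod_cast h
  have h := F.sum_le (fun χ => ‖(χ : G → ℂ) g‖ ^ 2) fun χ => by positivity
  have n : ∀ k : ℤ, ‖(k : ℂ)‖ ^ 2 = ((k ^ 2 : ℤ) : ℝ) := fun k => by
    rw [Complex.norm_intCast]; push_cast; rw [sq_abs]
  simp only [F.vals_eq _ hg, ha, hb, hc, n, oneChar_apply, norm_one, one_pow, Finset.sum_const,
    Finset.card_univ, Fintype.card_fin, nsmul_eq_mul, e] at h
  have h' : ((5 * a ^ 2 + b ^ 2 + c ^ 2 : ℤ) : ℝ) ≤
      ((Nat.card (centralizer ({g} : Set G)) : ℤ) : ℝ) := by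
    push_cast at h ⊢; linarith
  exact_mod_cast h'

end Fam

end AbData

end CfsgLib.J4Type.Eleven
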