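import Cfsg.Agent.Lib.J4Type.Eleven.CharGram

/-!
The five exceptional characters and the two further constituents, with the numbers attached
to them.
-/

set_option autoImplicit false
set_option linter.unusedSectionVars false

universe u

namespace CfsgLib.J4Type.Eleven

open Subgroup CfsgLib.Char
open scoped ComplexConjugate

variable {G : Type u} [Group G] [Fintype G] {z t : G}

/-- The trivial character. -/
def oneChar (G : Type u) [Group G] : Cfsg.IrrCharacter G := ⟨fun _ => 1, isIrrCharacter_one⟩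

theorem oneChar_apply (g : G) : (oneChar G : G → ℂ) g = 1 := rfl

/-- The inner product of two class functions with integral coefficients. -/
theorem inner_coeff [Fintype (Cfsg.IrrCharacter G)] {f f' : G → ℂ}
    (hf : Cfsg.IsClassFunction G f) (c c' : Cfsg.IrrCharacter G → ℤ)
    (h : ∀ χ : Cfsg.IrrCharacter G, Cfsg.classInner f (χ : G → ℂ) = c χ)
    (h' : ∀ χ : Cfsg.IrrCharacter G, Cfsg.classInner f' (χ : G → ℂ) = c' χ) :
    Cfsg.classInner f f' = ((∑ χ, c χ * c' χ : ℤ) : ℂ) := by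
  rw [classInner_eq_sum_mul hf, Int.cast_sum]
  exact Finset.sum_congr rfl fun χ _ => by rw [h, h', map_intCast, Int.cast_mul]

theorem sum_shift {ι : Type*} [Fintype ι] [DecidableEq ι] (a b : ι → ℤ) (m : ι) (u w : ℤ) :
    ∑ χ, (a χ + if χ = m then u else 0) * (b χ + if χ = m then w else 0) =
      (∑ χ, a χ * b χ) + u * b m + w * a m + u * w := by
  have e : ∀ χ, (a χ + if χ = m then u else 0) * (b χ + if χ = m then w else 0) =
      a χ * b χ + if χ = m then u * b χ + w * a χ + u * w else 0 := fun χ => by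
    split_ifs <;> ring
  simp only [e, Finset.sum_add_distrib, Finset.sum_ite_eq', Finset.mem_univ, if_true]
  ring

/-- A nonnegative sum dominates its part on five distinct arguments and three further ones. -/
theorem sum_eight {ι M : Type*} [Fintype ι] [AddCommMonoid M] [PartialOrder M]
    [IsOrderedAddMonoid M] (μ : Fin 5 → ι) (hμ : Function.Injective μ) {a b c : ι}
    (ha : ∀ i, a ≠ μ i) (hb : ∀ i, b ≠ μ i) (hc : ∀ i, c ≠ μ i) (hab : a ≠ b) (hac : a ≠ c)
    (hbc : b ≠ c) (f : ι → M) (hf : ∀ χ, 0 ≤ f χ) :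
    (∑ i, f (μ i)) + f a + f b + f c ≤ ∑ χ, f χ := by
  classical
  refine le_of_eq_of_le ?_ (Finset.sum_le_univ_sum_of_nonneg
    (s := insert a (insert b (insert c (Finset.univ.map ⟨μ, hμ⟩)))) hf)
  rw [Finset.sum_insert (by simp [hab, hac, fun i => (ha i).symm]),
    Finset.sum_insert (by simp [hbc, fun i => (hb i).symm]),
    Finset.sum_insert (by simp [fun i => (hc i).symm]), Finset.sum_map]
  simp only [Function.Embedding.coeFn_mk]
  abel

namespace AbData

/-- The exceptional characters, the further constituents, and their numbers. -/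
structure Fam (D : AbData z t) where
  /-- The representatives used. -/
  R : Reps D
  /-- The five exceptional characters. -/
  μ : Fin 5 → Cfsg.IrrCharacter G
  /-- The first further constituent. -/
  X : Cfsg.IrrCharacter G
  /-- The second further constituent. -/
  Y : Cfsg.IrrCharacter G
  (e sx sy p q p1 q1 p2 q2 : ℤ)
  (d x y : ℕ)
  μ_inj : Function.Injective μ
  X_ne : ∀ i, X ≠ μ i
  Y_ne : ∀ i, Y ≠ μ i
  X_ne_Y : X ≠ Y
  μ_ne_one : ∀ i, oneChar G ≠ μ i
  X_ne_one : X ≠ oneChar G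
  Y_ne_one : Y ≠ oneChar G
  sign_e : e = 1 ∨ e = -1
  sign_x : sx = 1 ∨ sx = -1
  sign_y : sy = 1 ∨ sy = -1
  diff : ∀ i g, D.ind (R.free i) (R.free 0) g = e * ((μ i : G → ℂ) g - (μ 0 : G → ℂ) g)
  expand : ∀ i g, D.ind (R.free i) R.wl g =
    e * (μ i : G → ℂ) g + sx * (X : G → ℂ) g + sy * (Y : G → ℂ) g
  deg_μ : ∀ i, (μ i : G → ℂ) 1 = d
  deg_X : (X : G → ℂ) 1 = x
  deg_Y : (Y : G → ℂ) 1 = y
  degree : e * d + sx * x + sy * y = 0
  res_d : (1331 : ℤ) ∣ d - 240 * e - p - 10 * q
  res_x : (1331 : ℤ) ∣ x + 120 * sx - p1 - 10 * q1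
  res_y : (1331 : ℤ) ∣ y + 120 * sy - p2 - 10 * q2
  rel_p : e * p + sx * p1 + sy * p2 = 0
  rel_q : e * q + sx * q1 + sy * q2 = 0
  bound_p : 4 * p ^ 2 + (p - e) ^ 2 + p1 ^ 2 + p2 ^ 2 ≤ 240
  bound_q : 4 * q ^ 2 + (q - e) ^ 2 + q1 ^ 2 + q2 ^ 2 ≤ 25
  sum_X_μ : ∑ᶠ s ∈ (D.X : Set G), (μ 0 : G → ℂ) s =
    ((d + 10 * (p - q - 24 * e) : ℤ) : ℂ)

variable (D : AbData z t)

theorem mult_oneChar [DecidableEq D.Lin] (l : D.Lin) :
    D.mult (oneChar G) l = if l = 1 then 1 else 0 := by
  classical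
  have := Fintype.ofFinite D.S
  have h := D.mult_spec (oneChar G) l
  have e : (fun s : D.S => (oneChar G : G → ℂ) s) = D.lf 1 := by
    funext s; simp [lf, oneChar_apply]
  rw [e, D.inner_lf] at h
  split_ifs at h ⊢ <;> exact_mod_cast h.symm

theorem ne_one_of_free {l : D.Lin} (h : D.IsFree l) : l ≠ 1 := fun e => D.not_free_one (e ▸ h)

set_option maxHeartbeats 1600000 in
variable {D} in
theorem exists_fam (R : Reps D) : Nonempty (Fam D) := by
  classical
  have := Fintype.ofFinite (Cfsg.IrrCharacter G)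
  obtain ⟨ε, hε, θ, hθ, hθinj, hτ⟩ := coherent_family 5 0
    (fun i => D.ind (R.free i) (R.free 0)) (by funext g; simp [ind, indFun_zero])
    (fun i => D.ind_gen _ _) (fun i => D.ind_one _ _) (fun i j hi hj => inner_tau R hi hj)
  obtain ⟨e, he, rfl⟩ : ∃ e : ℤ, (e = 1 ∨ e = -1) ∧ (e : ℂ) = ε := by
    rcases hε with h | h
    · exact ⟨1, Or.inl rfl, by simp [h]⟩
    · exact ⟨-1, Or.inr rfl, by simp [h]⟩
  have hee : e * e = 1 := by rcases he with h | h <;> simp [h]
  set μ : Fin 5 → Cfsg.IrrCharacter G := fun i => ⟨θ i, hθ i⟩ with hμdef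
  have hμ : Function.Injective μ := fun i j h => hθinj (congrArg Subtype.val h)
  set δ : Fin 5 → Cfsg.IrrCharacter G → ℤ := fun i χ => if χ = μ i then e else 0 with hδ
  set base : Cfsg.IrrCharacter G → ℤ := fun χ => D.mult χ (R.free 0) - δ 0 χ with hbase
  have hF : ∀ (χ : Cfsg.IrrCharacter G) (i : Fin 5), D.mult χ (R.free i) = base χ + δ i χ := by
    intro χ i
    have h := D.inner_ind_irr χ (R.free i) (R.free 0)
    rw [hτ i, classInner_smul_left, classInner_sub_left, irr_classInner (hθ i) χ.2,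
      irr_classInner (hθ 0) χ.2] at h
    have c : ∀ j, (θ j = (χ : G → ℂ)) ↔ χ = μ j := fun j =>
      ⟨fun h => Subtype.ext h.symm, fun h => (congrArg Subtype.val h).symm⟩
    simp only [c] at h
    have h' : D.mult χ (R.free i) - D.mult χ (R.free 0) = δ i χ - δ 0 χ := by
      refine Int.cast_injective (α := ℂ) (h.symm.trans ?_)
      simp only [hδ]
      split_ifs <;> push_cast <;> ring
    simp only [hbase]
    linarith
  set k : Cfsg.IrrCharacter G → ℤ := fun χ => base χ - D.mult χ R.wl with hk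
  set p : Cfsg.IrrCharacter G → ℤ := fun χ => D.mult χ 1 - base χ with hp
  set q : Cfsg.IrrCharacter G → ℤ := fun χ => D.mult χ R.xl - base χ with hq
  have cv : ∀ i (χ : Cfsg.IrrCharacter G), Cfsg.classInner (D.ind (R.free i) R.wl) (χ : G → ℂ) =
      ((k χ + δ i χ : ℤ) : ℂ) := fun i χ => by
    rw [D.inner_ind_irr, hF]; congr 1; simp only [hk]; ring
  have cu : ∀ i (χ : Cfsg.IrrCharacter G), Cfsg.classInner (D.ind (R.free i) 1) (χ : G → ℂ) =
      ((-p χ + δ i χ : ℤ) : ℂ) := fun i χ => by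
    rw [D.inner_ind_irr, hF]; congr 1; simp only [hp]; ring
  have cw : ∀ i (χ : Cfsg.IrrCharacter G), Cfsg.classInner (D.ind (R.free i) R.xl) (χ : G → ℂ) =
      ((-q χ + δ i χ : ℤ) : ℂ) := fun i χ => by
    rw [D.inner_ind_irr, hF]; congr 1; simp only [hq]; ring
  have gram : ∀ {a b : D.Lin} {i : Fin 5} (c c' : Cfsg.IrrCharacter G → ℤ) (n : ℤ),
      (∀ χ : Cfsg.IrrCharacter G, Cfsg.classInner (D.ind (R.free i) a) (χ : G → ℂ) =
        ((c χ + δ i χ : ℤ) : ℂ)) →
      (∀ χ : Cfsg.IrrCharacter G, Cfsg.classInner (D.ind (R.free i) b) (χ : G → ℂ) =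
        ((c' χ + δ i χ : ℤ) : ℂ)) →
      Cfsg.classInner (D.ind (R.free i) a) (D.ind (R.free i) b) = (n : ℂ) →
      (∑ χ, c χ * c' χ) + e * c' (μ i) + e * c (μ i) + 1 = n := by
    intro a b i c c' n h1 h2 h3
    rw [inner_coeff (D.ind_isClass _ _) _ _ h1 h2] at h3
    have h4 : (∑ χ, (c χ + δ i χ) * (c' χ + δ i χ)) = n := by exact_mod_cast h3
    simp only [hδ] at h4
    rw [sum_shift, hee] at h4
    exact h4
  have nk : ∀ i, (∑ χ, k χ * k χ) + 2 * e * k (μ i) = 2 := fun i => by
    have h := gram (i := i) k k 3 (cv i) (cv i) (by rw [inner_v, if_pos rfl]; norm_num)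
    linarith
  have nu : ∀ i, (∑ χ, p χ * p χ) - 2 * e * p (μ i) = 240 := fun i => by
    have h := gram (i := i) (fun χ => -p χ) (fun χ => -p χ) 241 (cu i) (cu i)
      (by rw [inner_u]; norm_num)
    simp only [neg_mul_neg] at h
    linarith
  have nw : ∀ i, (∑ χ, q χ * q χ) - 2 * e * q (μ i) = 24 := fun i => by
    have h := gram (i := i) (fun χ => -q χ) (fun χ => -q χ) 25 (cw i) (cw i)
      (by rw [inner_w]; norm_num)
    simp only [neg_mul_neg] at h
    linarith
  have hsame : ∀ (f : Cfsg.IrrCharacter G → ℤ) {s n : ℤ}, (∀ i, s + 2 * e * f (μ i) = n) →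
      ∀ i, f (μ i) = f (μ 0) := fun f s n h i => by
    have := h i; have := h 0
    rcases he with rfl | rfl <;> linarith
  have kμ : ∀ i, k (μ i) = 0 := by
    have h5 : (∑ i, k (μ i) * k (μ i)) ≤ ∑ χ, k χ * k χ := by
      have := Finset.sum_le_univ_sum_of_nonneg (f := fun χ => k χ * k χ)
        (s := Finset.univ.map ⟨μ, hμ⟩) fun χ => mul_self_nonneg _
      rwa [Finset.sum_map] at this
    simp only [hsame k nk, Finset.sum_const, Finset.card_univ, Fintype.card_fin] at h5
    have h6 := nk 0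
    intro i
    rw [hsame k nk i]
    have h7 : 5 * (k (μ 0) * k (μ 0)) + 2 * e * k (μ 0) ≤ 2 := by
      simp only [nsmul_eq_mul] at h5; push_cast at h5; linarith
    rcases he with rfl | rfl <;> nlinarith
  have hk2 : ∑ χ, k χ * k χ = 2 := by simpa [kμ 0] using nk 0
  obtain ⟨A, B, hAB, hkA, hkB, hk0⟩ : ∃ A B, A ≠ B ∧ (k A = 1 ∨ k A = -1) ∧
      (k B = 1 ∨ k B = -1) ∧ ∀ χ, χ ≠ A → χ ≠ B → k χ = 0 := by
    set s := Finset.univ.filter fun χ => k χ ≠ 0 with hs
    have hs2 : ∑ χ ∈ s, k χ * k χ = 2 :=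
      (Finset.sum_filter_of_ne (p := fun χ => k χ ≠ 0) (f := fun χ => k χ * k χ)
        fun χ _ h h0 => h (by rw [h0, mul_zero])).trans hk2
    have hone : ∀ χ ∈ s, 1 ≤ k χ * k χ := fun χ hχ => by
      have := mul_self_pos.mpr (Finset.mem_filter.mp hχ).2
      omega
    have hc : s.card = 2 := by
      have h := Finset.sum_le_sum hone
      rw [Finset.sum_const, hs2] at h
      have hle : s.card ≤ 2 := by simpa using h
      interval_cases hh : s.card
      · rw [Finset.card_eq_zero.mp hh] at hs2; simp at hs2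
      · obtain ⟨a, ha⟩ := Finset.card_eq_one.mp hh
        rw [ha, Finset.sum_singleton] at hs2
        have : k a * k a ≠ 2 := by
          intro h2
          have h1 : k a ≤ 1 := by nlinarith
          have h1' : -1 ≤ k a := by nlinarith
          interval_cases k a <;> omega
        exact absurd hs2 this
      · rfl
    obtain ⟨A, B, hAB, hsAB⟩ := Finset.card_eq_two.mp hc
    rw [hsAB, Finset.sum_pair hAB] at hs2
    have := hone A (by simp [hsAB]); have := hone B (by simp [hsAB])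
    refine ⟨A, B, hAB, Int.eq_one_or_neg_one_of_mul_eq_one (show k A * k A = 1 by omega),
      Int.eq_one_or_neg_one_of_mul_eq_one (show k B * k B = 1 by omega), fun χ h1 h2 => ?_⟩
    by_contra h
    have hm : χ ∈ s := Finset.mem_filter.mpr ⟨Finset.mem_univ _, h⟩
    simp [hsAB, h1, h2] at hm
  have neA : ∀ i, A ≠ μ i := fun i h => by rw [h, kμ] at hkA; simp at hkA
  have neB : ∀ i, B ≠ μ i := fun i h => by rw [h, kμ] at hkB; simp at hkB
  have m1 : ∀ i, D.mult (oneChar G) (R.free i) = 0 := fun i => by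
    rw [mult_oneChar, if_neg (D.ne_one_of_free (R.free_isFree i))]
  have hb1 : base (oneChar G) = 0 ∧ ∀ i, oneChar G ≠ μ i := by
    have h : ∀ i, base (oneChar G) + δ i (oneChar G) = 0 := fun i => by rw [← hF, m1]
    have hne : ∀ i, oneChar G ≠ μ i := by
      intro i hi
      obtain ⟨j, hj⟩ := exists_ne i
      have h1 := h i; have h2 := h j
      simp only [hδ, if_pos hi, if_neg (fun (h' : oneChar G = μ j) => hj (hμ (h'.symm.trans hi)))] at h1 h2
      rcases he with rfl | rfl <;> omega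
    refine ⟨?_, hne⟩
    have h1 := h 0
    simpa [hδ, hne 0] using h1
  obtain ⟨hb1, ne1⟩ := hb1
  have hw1 : R.wl ≠ 1 := fun h => R.wl_isW.2 (by rw [h]; exact D.res_one.2)
  have hx1 : R.xl ≠ 1 := fun h => R.xl_isX.2 (by rw [h]; exact D.res_one.1)
  have k1 : k (oneChar G) = 0 ∧ p (oneChar G) = 1 ∧ q (oneChar G) = 0 := by
    simp [hk, hp, hq, hb1, mult_oneChar, hw1, hx1]
  have A1 : A ≠ oneChar G := fun h => by rw [h, k1.1] at hkA; simp at hkA
  have B1 : B ≠ oneChar G := fun h => by rw [h, k1.1] at hkB; simp at hkB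
  have pμ : ∀ i, p (μ i) = p (μ 0) :=
    hsame p (s := -∑ χ, p χ * p χ) (n := -240) fun i => by
      have := nu i; have := nu 0; rcases he with rfl | rfl <;> linarith
  have qμ : ∀ i, q (μ i) = q (μ 0) :=
    hsame q (s := -∑ χ, q χ * q χ) (n := -24) fun i => by
      have := nw i; have := nw 0; rcases he with rfl | rfl <;> linarith
  have cross : ∀ f : Cfsg.IrrCharacter G → ℤ, (∑ χ, f χ * k χ) = k A * f A + k B * f B := by
    intro f
    rw [← Finset.sum_subset (Finset.subset_univ {A, B}) fun χ _ h => ?_, Finset.sum_pair hAB]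
    · ring
    · simp only [Finset.mem_insert, Finset.mem_singleton, not_or] at h
      rw [hk0 χ h.1 h.2, mul_zero]
  have bound : ∀ f : Cfsg.IrrCharacter G → ℤ, (∀ i, f (μ i) = f (μ 0)) →
      5 * f (μ 0) ^ 2 + f A ^ 2 + f B ^ 2 + f (oneChar G) ^ 2 ≤ ∑ χ, f χ * f χ := by
    intro f hf
    have h := sum_eight μ hμ neA neB ne1 hAB A1 B1 (fun χ => f χ * f χ) fun χ => mul_self_nonneg _
    simp only [hf, Finset.sum_const, Finset.card_univ, Fintype.card_fin, nsmul_eq_mul] at h
    push_cast at h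
    linarith
  have deg : ∀ χ : Cfsg.IrrCharacter G, (χ : G → ℂ) 1 =
      ((1331 * base χ + p χ + 10 * q χ - 120 * k χ + 240 * ∑ i, δ i χ : ℤ) : ℂ) := fun χ => by
    rw [degree_eq R]
    congr 1
    simp only [hF, hp, hq, hk, Finset.mul_sum, mul_add, Finset.sum_add_distrib, Finset.sum_const,
      Finset.card_univ, Fintype.card_fin, nsmul_eq_mul]
    push_cast
    ring
  have dAB : ∀ χ, (∀ i, χ ≠ μ i) → ∑ i, δ i χ = 0 := fun χ h =>
    Finset.sum_eq_zero fun i _ => by simp [hδ, h i]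
  have dμ : ∑ i, δ i (μ 0) = e := by
    rw [Finset.sum_eq_single 0 (fun i _ hi => by simp [hδ, hμ.eq_iff, Ne.symm hi]) (by simp)]
    simp [hδ]
  obtain ⟨d, -, hd⟩ := irr_apply_one_pos (μ 0).2
  obtain ⟨x, -, hx⟩ := irr_apply_one_pos A.2
  obtain ⟨y, -, hy⟩ := irr_apply_one_pos B.2
  have hdμ : ∀ i, (μ i : G → ℂ) 1 = d := fun i => by
    have h := congr_fun (hτ i) 1
    rw [D.ind_one, Pi.smul_apply, Pi.sub_apply, smul_eq_mul, eq_comm, mul_eq_zero] at h
    rw [← hd]
    refine sub_eq_zero.mp (h.resolve_left ?_)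
    rcases he with rfl | rfl <;> simp
  have expand : ∀ i g, D.ind (R.free i) R.wl g =
      e * (μ i : G → ℂ) g + k A * (A : G → ℂ) g + k B * (B : G → ℂ) g := by
    intro i g
    rw [classFunction_apply_eq_sum (D.ind_isClass _ _) g]
    simp only [cv, Int.cast_add, add_mul, Finset.sum_add_distrib]
    rw [← Finset.sum_subset (Finset.subset_univ {A, B}) fun χ _ h => ?_, Finset.sum_pair hAB,
      Finset.sum_eq_single (μ i) (fun χ _ h => by simp [hδ, h]) (by simp)]
    · simp only [hδ, if_pos rfl]; ring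
    · simp only [Finset.mem_insert, Finset.mem_singleton, not_or] at h
      rw [hk0 χ h.1 h.2]; simp
  have degree : e * d + k A * x + k B * y = 0 := by
    have h := expand 0 1
    rw [D.ind_one, hdμ, hx, hy] at h
    exact_mod_cast h.symm
  have ed : (d : ℤ) = 1331 * base (μ 0) + p (μ 0) + 10 * q (μ 0) + 240 * e := by
    refine Int.cast_injective (α := ℂ) ?_
    rw [Int.cast_natCast, ← hd, deg (μ 0), kμ 0, dμ]
    push_cast; ring
  have ex : (x : ℤ) = 1331 * base A + p A + 10 * q A - 120 * k A := by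
    refine Int.cast_injective (α := ℂ) ?_
    rw [Int.cast_natCast, ← hx, deg A, dAB A neA]
    push_cast; ring
  have ey : (y : ℤ) = 1331 * base B + p B + 10 * q B - 120 * k B := by
    refine Int.cast_injective (α := ℂ) ?_
    rw [Int.cast_natCast, ← hy, deg B, dAB B neB]
    push_cast; ring
  refine ⟨⟨R, μ, A, B, e, k A, k B, p (μ 0), q (μ 0), p A, q A, p B, q B, d, x, y, hμ, neA, neB,
    hAB, ne1, A1, B1, he, hkA, hkB, ?_, expand, hdμ, hx, hy, degree, ⟨base (μ 0), by linarith⟩,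
    ⟨base A, by linarith⟩, ⟨base B, by linarith⟩, ?_, ?_, ?_, ?_, ?_⟩⟩
  · intro i g
    rw [congr_fun (hτ i) g]
    rfl
  · have h := gram (i := 0) (fun χ => -p χ) k 1 (cu 0) (cv 0)
      (by rw [inner_cross_one]; norm_num)
    simp only [neg_mul, Finset.sum_neg_distrib, cross, kμ 0] at h
    linarith
  · have h := gram (i := 0) (fun χ => -q χ) k 1 (cw 0) (cv 0)
      (by rw [inner_cross_X]; norm_num)
    simp only [neg_mul, Finset.sum_neg_distrib, cross, kμ 0] at h
    linarith
  · have h := bound p pμ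
    have h' := nu 0
    rw [k1.2.1] at h
    nlinarith
  · have h := bound q qμ
    have h' := nw 0
    rw [k1.2.2] at h
    nlinarith
  · rw [sum_X R]
    congr 1
    have hw : D.mult (μ 0) R.wl = base (μ 0) := by
      have := kμ 0; simp only [hk] at this; linarith
    have h0 : D.mult (μ 0) 1 = base (μ 0) + p (μ 0) := by simp [hp]
    rw [hw, h0]
    linarith

theorem exists_Fam : Nonempty (Fam D) := D.exists_reps.elim exists_fam

end AbData

end CfsgLib.J4Type.Eleven
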