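import Cfsg.Agent.Lib.J4Type.Eleven.CharInner

/-!
The representatives of the orbits and the inner products of their induced differences.
-/

set_option autoImplicit false
set_option linter.unusedSectionVars false

universe u

namespace CfsgLib.J4Type.Eleven

open Subgroup CfsgLib.Char
open scoped ComplexConjugate

variable {G : Type u} [Group G] [Fintype G] {z t : G}

namespace AbData

/-- Representatives of all orbits. -/
structure Reps (D : AbData z t) where
  /-- The free ones. -/
  free : Fin 5 → D.Lin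
  /-- The one trivial on the fixed part. -/
  wl : D.Lin
  /-- The one trivial on the inverted part. -/
  xl : D.Lin
  free_isFree : ∀ i, D.IsFree (free i)
  free_sep : ∀ i j, free j ∈ D.orbit (free i) → i = j
  free_cover : ∀ l, D.IsFree l → ∃ i, l ∈ D.orbit (free i)
  wl_isW : D.IsW wl
  xl_isX : D.IsX xl

variable (D : AbData z t)

theorem exists_reps : Nonempty (Reps D) := by
  obtain ⟨r, h1, h2, h3⟩ := D.exists_free_reps
  obtain ⟨l, hl, -⟩ := D.exists_W_fixed
  have hX : Nonempty {l : D.Lin // D.IsX l} := (Nat.card_pos_iff.1 (by rw [D.card_types.1]; norm_num)).1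
  exact ⟨⟨r, l, hX.some.1, h1, h2, h3, hl, hX.some.2⟩⟩

theorem res_one : D.resX (1 : D.Lin) = 1 ∧ D.resW (1 : D.Lin) = 1 := ⟨rfl, rfl⟩

theorem stab_one : Nat.card (D.stab 1) = 319440 := by
  have : D.stab 1 = ⊤ := eq_top_iff.2 fun x _ => MonoidHom.ext fun s => rfl
  rw [this, Subgroup.card_top]
  exact D.card_N

theorem not_free_one : ¬ D.IsFree (1 : D.Lin) := fun h => h.1 rfl

theorem not_mem_of_free {a c : D.Lin} (ha : D.IsFree a) (hc : ¬ D.IsFree c) :
    a ∉ D.orbit c ∧ c ∉ D.orbit a := by
  refine ⟨fun h => ?_, fun h => hc ((D.orbit_type h).2.2 ha)⟩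
  have h' : c ∈ D.orbit a := by rw [D.orbit_eq_of_mem h]; exact D.self_mem_orbit c
  exact hc ((D.orbit_type h').2.2 ha)

variable {D} (R : Reps D)

theorem trans_free (i j : Fin 5) :
    D.trans (R.free i) (R.free j) = if i = j then 1331 else 0 := by
  split_ifs with h
  · subst h; rw [trans_self, D.stab_free (R.free_isFree i)]
  · exact D.trans_of_not_mem fun hm => h (R.free_sep _ _ hm).symm

theorem inner_same {c : D.Lin} (hc : ¬ D.IsFree c) (i j : Fin 5) :
    Cfsg.classInner (D.ind (R.free i) c) (D.ind (R.free j) c) =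
      (((if i = j then 1331 else 0) + Nat.card (D.stab c) : ℤ) : ℂ) / 1331 := by
  rw [D.inner_ind, trans_free, D.trans_of_not_mem (D.not_mem_of_free (R.free_isFree i) hc).1,
    D.trans_of_not_mem (D.not_mem_of_free (R.free_isFree j) hc).2, trans_self]
  congr 2
  push_cast
  ring

theorem inner_v (i j : Fin 5) :
    Cfsg.classInner (D.ind (R.free i) R.wl) (D.ind (R.free j) R.wl) =
      if i = j then 3 else 2 := by
  rw [inner_same R (fun h => h.1 R.wl_isW.1), (D.orbit_W_eq R.wl_isW).2]
  split_ifs <;> push_cast <;> norm_num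

theorem inner_w (i : Fin 5) :
    Cfsg.classInner (D.ind (R.free i) R.xl) (D.ind (R.free i) R.xl) = 25 := by
  rw [inner_same R (fun h => h.2 R.xl_isX.1), D.stab_X R.xl_isX, if_pos rfl]
  norm_num

theorem inner_u (i : Fin 5) :
    Cfsg.classInner (D.ind (R.free i) 1) (D.ind (R.free i) 1) = 241 := by
  rw [inner_same R D.not_free_one, D.stab_one, if_pos rfl]
  norm_num

theorem inner_cross {c : D.Lin} (hc : ¬ D.IsFree c) (hne : R.wl ∉ D.orbit c) (i : Fin 5) :
    Cfsg.classInner (D.ind (R.free i) c) (D.ind (R.free i) R.wl) = 1 := by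
  have hw : ¬ D.IsFree R.wl := fun h => h.1 R.wl_isW.1
  rw [D.inner_ind, trans_free, if_pos rfl,
    D.trans_of_not_mem (D.not_mem_of_free (R.free_isFree i) hw).1,
    D.trans_of_not_mem (D.not_mem_of_free (R.free_isFree i) hc).2,
    D.trans_of_not_mem (a := c) (c := R.wl)
      (fun h => hne (by rw [D.orbit_eq_of_mem h]; exact D.self_mem_orbit _))]
  norm_num

theorem inner_cross_X (i : Fin 5) :
    Cfsg.classInner (D.ind (R.free i) R.xl) (D.ind (R.free i) R.wl) = 1 :=
  inner_cross R (fun h => h.2 R.xl_isX.1)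
    (fun h => ((D.orbit_type h).1 R.xl_isX).2 R.wl_isW.1) i

theorem inner_cross_one (i : Fin 5) :
    Cfsg.classInner (D.ind (R.free i) 1) (D.ind (R.free i) R.wl) = 1 :=
  inner_cross R D.not_free_one (fun h => R.wl_isW.2 (by
    obtain ⟨x, hx⟩ := D.mem_orbit.1 h
    rw [← hx]
    exact D.resW_act_one x rfl)) i

theorem inner_tau {i j : Fin 5} (hi : i ≠ 0) (hj : j ≠ 0) :
    Cfsg.classInner (D.ind (R.free i) (R.free 0)) (D.ind (R.free j) (R.free 0)) =
      if i = j then 2 else 1 := by
  rw [D.inner_ind, trans_free, trans_free, trans_free, trans_free, if_neg hi, if_neg hj.symm,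
    if_pos rfl]
  split_ifs <;> norm_num

open scoped Classical in
/-- A sum over the linear characters of a function constant on orbits. -/
theorem sum_lin {M : Type*} [AddCommMonoid M] (f : D.Lin → M)
    (hf : ∀ a, ∀ b ∈ D.orbit a, f b = f a) :
    ∑ l : D.Lin, f l = f 1 + 10 • f R.xl + 120 • f R.wl + ∑ i, 240 • f (R.free i) := by
  have hcard : ∀ {s : Finset D.Lin} (a : D.Lin), (∀ b ∈ s, f b = f a) → ∑ l ∈ s, f l = s.card • f a :=
    fun a h => by rw [Finset.sum_congr rfl h, Finset.sum_const]
  have h0 : (Finset.univ.filter fun l : D.Lin => ¬ D.IsFree l) =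
      ({1} ∪ D.orbit R.xl) ∪ D.orbit R.wl := by
    rw [D.orbit_X R.xl_isX, (D.orbit_W_eq R.wl_isW).1]
    ext l
    simp only [Finset.mem_filter, Finset.mem_univ, true_and, Finset.mem_union, Finset.mem_singleton]
    constructor
    · intro h
      rcases D.cases_lin l with e | e | e | e
      · exact .inl (.inl e)
      · exact .inl (.inr e)
      · exact .inr e
      · exact absurd e h
    · rintro ((rfl | e) | e)
      · exact D.not_free_one
      · exact fun h => h.2 e.1
      · exact fun h => h.1 e.1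
  have d1 : Disjoint ({1} : Finset D.Lin) (D.orbit R.xl) := by
    rw [D.orbit_X R.xl_isX, Finset.disjoint_singleton_left, Finset.mem_filter]
    exact fun h => h.2.2 rfl
  have d2 : Disjoint (({1} : Finset D.Lin) ∪ D.orbit R.xl) (D.orbit R.wl) := by
    rw [D.orbit_X R.xl_isX, (D.orbit_W_eq R.wl_isW).1, Finset.disjoint_left]
    intro l hl hl'
    simp only [Finset.mem_filter, Finset.mem_univ, true_and, Finset.mem_union,
      Finset.mem_singleton] at hl hl'
    rcases hl with rfl | e
    · exact hl'.2 rfl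
    · exact hl'.2 e.1
  have h1 : (Finset.univ.filter fun l : D.Lin => D.IsFree l) =
      Finset.univ.biUnion fun i => D.orbit (R.free i) := by
    ext l
    simp only [Finset.mem_filter, Finset.mem_univ, true_and, Finset.mem_biUnion]
    exact ⟨R.free_cover l, fun ⟨i, hi⟩ => (D.orbit_type hi).2.2 (R.free_isFree i)⟩
  have cX : (D.orbit R.xl).card = 10 := by
    rw [D.orbit_X R.xl_isX, ← Fintype.card_subtype, ← Nat.card_eq_fintype_card, D.card_types.1]
  have cW : (D.orbit R.wl).card = 120 := by
    rw [(D.orbit_W_eq R.wl_isW).1, ← Fintype.card_subtype, ← Nat.card_eq_fintype_card,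
      D.card_types.2.1]
  rw [← Finset.sum_filter_not_add_sum_filter Finset.univ (fun l => D.IsFree l) f, h0, h1,
    Finset.sum_union d2, Finset.sum_union d1, Finset.sum_singleton,
    hcard R.xl (hf R.xl), hcard R.wl (hf R.wl), cX, cW, Finset.sum_biUnion]
  · refine congrArg _ (Finset.sum_congr rfl fun i _ => ?_)
    rw [hcard _ (hf (R.free i)), D.card_orbit_free (R.free_isFree i)]
  · intro i _ j _ hij
    rw [Function.onFun, Finset.disjoint_left]
    intro l hl hl'
    refine hij (R.free_sep i j ?_)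
    rw [← D.orbit_eq_of_mem hl, D.orbit_eq_of_mem hl']
    exact D.self_mem_orbit _

theorem degree_eq (χ : Cfsg.IrrCharacter G) :
    (χ : G → ℂ) 1 = ((D.mult χ 1 + 10 * D.mult χ R.xl + 120 * D.mult χ R.wl +
      ∑ i, 240 * D.mult χ (R.free i) : ℤ) : ℂ) := by
  have h := D.apply_eq_sum χ 1
  simp only [OneMemClass.coe_one, map_one, Units.val_one, mul_one] at h
  have e : ∑ l : D.Lin, D.mult χ l =
      D.mult χ 1 + 10 * D.mult χ R.xl + 120 * D.mult χ R.wl + ∑ i, 240 * D.mult χ (R.free i) := by
    rw [sum_lin R (fun l => D.mult χ l) fun a b hb => D.mult_of_mem hb]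
    simp only [nsmul_eq_mul]
    norm_num
  rw [h, ← e, Int.cast_sum]

theorem sum_X (χ : Cfsg.IrrCharacter G) :
    ∑ᶠ x ∈ (D.X : Set G), (χ : G → ℂ) x =
      ((11 * (D.mult χ 1 + 120 * D.mult χ R.wl) : ℤ) : ℂ) := by
  classical
  have := Fintype.ofFinite D.X
  rw [finsum_mem_eq_toFinset_sum]
  have e : ∀ a : D.X, (χ : G → ℂ) a =
      ∑ l : D.Lin, (D.mult χ l : ℂ) * (D.resX l a : ℂ) := fun a =>
    D.apply_eq_sum χ (Subgroup.inclusion D.X_le a)
  have hsum : ∀ l : D.Lin, ∑ a : D.X, (D.resX l a : ℂ) = if D.resX l = 1 then 11 else 0 := by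
    intro l
    split_ifs with h
    · simp [h, ← Nat.card_eq_fintype_card, D.card_X]
    · obtain ⟨b, hb⟩ := DFunLike.ne_iff.1 h
      have h2 : (D.resX l b : ℂ) * ∑ a : D.X, (D.resX l a : ℂ) = ∑ a : D.X, (D.resX l a : ℂ) := by
        rw [Finset.mul_sum]
        exact Fintype.sum_equiv (Equiv.mulLeft b) _ _ fun a => by simp
      by_contra h0
      exact hb (Units.ext (mul_right_cancel₀ h0 (h2.trans (one_mul _).symm)))
  calc _ = ∑ a : D.X, (χ : G → ℂ) a := by
        refine Finset.sum_bij' (fun a ha => ⟨a, by simpa using ha⟩) (fun a _ => (a : G))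
          ?_ ?_ ?_ ?_ ?_ <;> simp
    _ = ∑ l : D.Lin, (D.mult χ l : ℂ) * ∑ a : D.X, (D.resX l a : ℂ) := by
        simp only [e, Finset.mul_sum]
        exact Finset.sum_comm
    _ = ((∑ l : D.Lin, if D.resX l = 1 then 11 * D.mult χ l else 0 : ℤ) : ℂ) := by
        rw [Int.cast_sum]
        refine Finset.sum_congr rfl fun l _ => ?_
        rw [hsum]
        split_ifs <;> push_cast <;> ring
    _ = _ := by
        congr 1
        rw [sum_lin R (fun l => if D.resX l = 1 then 11 * D.mult χ l else 0) fun a b hb => by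
          obtain ⟨x, rfl⟩ := D.mem_orbit.1 hb
          simp only [D.resX_act_iff, D.mult_act]]
        rw [if_pos D.res_one.1, if_neg R.xl_isX.2, if_pos R.wl_isW.1,
          Finset.sum_eq_zero fun i _ => by rw [if_neg (R.free_isFree i).1, nsmul_zero]]
        simp only [nsmul_eq_mul]
        push_cast
        ring

end AbData

end CfsgLib.J4Type.Eleven
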