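import Cfsg.Agent.Lib.J4Type.Eleven.CharStab
import Cfsg.Agent.Lib.Char.TI
import Cfsg.Agent.Lib.Char.LinearSum
import Cfsg.Agent.Lib.Char.Inner

/-!
Inner products of the functions induced from differences of linear characters, and the
multiplicities of linear characters in the restriction of an irreducible character.
-/

set_option autoImplicit false
set_option linter.unusedSectionVars false

universe u

namespace CfsgLib.J4Type.Eleven

open Subgroup CfsgLib.Char
open scoped ComplexConjugate

variable {G : Type u} [Group G] [Fintype G] {z t : G}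

namespace AbData

variable (D : AbData z t)

/-- A linear character as a function. -/
def lf (l : D.Lin) : D.S → ℂ := fun s => (l s : ℂ)

theorem lf_one (l : D.Lin) : D.lf l 1 = 1 := by simp [lf]

theorem lf_irr (l : D.Lin) : Cfsg.IsIrrCharacter D.S (D.lf l) := isIrrCharacter_linear l

theorem lf_inj {a b : D.Lin} (h : D.lf a = D.lf b) : a = b :=
  MonoidHom.ext fun s => Units.ext (congr_fun h s)

open scoped Classical in
theorem inner_lf [Fintype D.S] (a b : D.Lin) :
    Cfsg.classInner (D.lf a) (D.lf b) = if a = b then 1 else 0 := by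
  split_ifs with h
  · subst h; exact irr_classInner_self (D.lf_irr a)
  · exact irr_classInner_ne (D.lf_irr a) (D.lf_irr b) fun e => h (D.lf_inj e)

/-- The induced difference of two linear characters. -/
noncomputable def ind (a b : D.Lin) : G → ℂ := Cfsg.indFun D.S (D.lf a - D.lf b)

theorem ind_one (a b : D.Lin) : D.ind a b 1 = 0 := by
  simp [ind, indFun_apply_one, lf_one]

theorem ind_isClass (a b : D.Lin) : Cfsg.IsClassFunction G (D.ind a b) := indFun_isClassFunction _ _

theorem ind_gen (a b : D.Lin) : Cfsg.IsGeneralizedCharacter G (D.ind a b) :=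
  isGeneralized_indFun _ (isGeneralized_sub (isGeneralized_of_isCharacter (irr_isCharacter (D.lf_irr a)))
    (isGeneralized_of_isCharacter (irr_isCharacter (D.lf_irr b))))

theorem ind_add (a b c : D.Lin) : D.ind a b + D.ind b c = D.ind a c := by
  rw [ind, ind, ind, ← indFun_add, sub_add_sub_cancel]

theorem indFun_on_S [Fintype D.N] (f : D.S → ℂ) {s : D.S} (hs : (s : G) ≠ 1) :
    Cfsg.indFun D.S f s =
      (1331 : ℂ)⁻¹ * ∑ x : D.N, f (⟨(x : G)⁻¹ * s * x, D.conj_mem_S x.2 s.2⟩) := by
  classical
  rw [indFun_def, D.card_S, show ((11 ^ 3 : ℕ) : ℂ) = 1331 by norm_num]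
  congr 1
  rw [← Finset.sum_filter_of_ne (p := fun x => x ∈ D.N) (fun x _ hne => by
    by_contra hx
    refine hne (extendByZero_of_not_mem _ fun h => hs ?_)
    exact D.ti x⁻¹ (fun h' => hx (by simpa using inv_mem h')) s s.2 (by simpa using h))]
  refine Finset.sum_bij' (fun x hx => ⟨x, (Finset.mem_filter.1 hx).2⟩) (fun x _ => (x : G))
    (fun x _ => Finset.mem_univ _) (fun x _ => Finset.mem_filter.2 ⟨Finset.mem_univ _, x.2⟩)
    (fun x _ => rfl) (fun x _ => rfl) fun x hx => ?_
  rw [extendByZero_of_mem _ (D.conj_mem_S (Finset.mem_filter.1 hx).2 s.2)]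

/-- The inner product of two induced differences. -/
theorem inner_ind (a b c d : D.Lin) :
    Cfsg.classInner (D.ind a b) (D.ind c d) =
      (((D.trans a c : ℤ) - D.trans a d - D.trans b c + D.trans b d : ℤ) : ℂ) / 1331 := by
  classical
  have := Fintype.ofFinite D.S
  have := Fintype.ofFinite D.N
  rw [ind, ind, frobenius_reciprocity _ _ _ (indFun_isClassFunction _ _)]
  have h : Cfsg.classInner (D.lf a - D.lf b) (fun s : D.S => Cfsg.indFun D.S (D.lf c - D.lf d) s) =
      Cfsg.classInner (D.lf a - D.lf b)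
        ((1331 : ℂ)⁻¹ • ∑ x : D.N, (D.lf (D.act x c) - D.lf (D.act x d))) := by
    rw [classInner_def, classInner_def]
    congr 1
    refine Finset.sum_congr rfl fun s _ => ?_
    by_cases hs : (s : G) = 1
    · rw [show s = 1 from Subtype.ext hs]
      simp [lf_one]
    · rw [D.indFun_on_S _ hs]
      simp only [Pi.smul_apply, Finset.sum_apply, smul_eq_mul, Pi.sub_apply]
      rfl
  rw [h, classInner_smul_right, classInner_sum_right]
  simp only [classInner_sub_left, classInner_sub_right, inner_lf]
  simp only [Finset.sum_sub_distrib, Finset.sum_boole]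
  simp only [trans, Nat.card_eq_fintype_card, Fintype.card_subtype, eq_comm (a := a), eq_comm (a := b),
    map_inv₀, map_ofNat]
  push_cast
  ring

theorem trans_of_not_mem {a c : D.Lin} (h : a ∉ D.orbit c) : D.trans a c = 0 :=
  D.trans_eq_zero fun x e => h (D.mem_orbit.2 ⟨x, e⟩)

/-- The multiplicity of a linear character in a restriction. -/
noncomputable def mult (χ : Cfsg.IrrCharacter G) (l : D.Lin) : ℤ :=
  haveI := Fintype.ofFinite D.S
  (classInner_isGeneralized_int (isGeneralized_of_isCharacter (irr_isCharacter (D.lf_irr l)))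
    (isGeneralized_of_isCharacter (isCharacter_restrict (irr_isCharacter χ.2) D.S))).choose

theorem mult_spec [hS : Fintype D.S] (χ : Cfsg.IrrCharacter G) (l : D.Lin) :
    Cfsg.classInner (D.lf l) (fun s : D.S => (χ : G → ℂ) s) = (D.mult χ l : ℂ) := by
  obtain rfl : hS = Fintype.ofFinite D.S := Subsingleton.elim _ _
  letI := Fintype.ofFinite D.S
  exact (classInner_isGeneralized_int
    (isGeneralized_of_isCharacter (irr_isCharacter (D.lf_irr l)))
    (isGeneralized_of_isCharacter (isCharacter_restrict (irr_isCharacter χ.2) D.S))).choose_spec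

theorem inner_ind_irr (χ : Cfsg.IrrCharacter G) (a b : D.Lin) :
    Cfsg.classInner (D.ind a b) (χ : G → ℂ) = ((D.mult χ a - D.mult χ b : ℤ) : ℂ) := by
  have := Fintype.ofFinite D.S
  rw [ind, frobenius_reciprocity _ _ _ (irr_isClassFunction χ.2), classInner_sub_left,
    D.mult_spec, D.mult_spec]
  push_cast
  rfl

theorem mult_act (χ : Cfsg.IrrCharacter G) (x : D.N) (l : D.Lin) :
    D.mult χ (D.act x l) = D.mult χ l := by
  have := Fintype.ofFinite D.S
  have e : Cfsg.classInner (D.lf (D.act x l)) (fun s : D.S => (χ : G → ℂ) s) =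
      Cfsg.classInner (D.lf l) (fun s : D.S => (χ : G → ℂ) s) := by
    rw [classInner_def, classInner_def]
    congr 1
    refine Fintype.sum_bijective (D.cj x) ?_ _ _ fun s => ?_
    · rw [Fintype.bijective_iff_injective_and_card]
      refine ⟨fun a b h => ?_, rfl⟩
      have h' : (x : G)⁻¹ * a * x = (x : G)⁻¹ * b * x := congrArg Subtype.val h
      exact Subtype.ext (mul_left_cancel (mul_right_cancel h'))
    · show (l (D.cj x s) : ℂ) * _ = (l (D.cj x s) : ℂ) * _
      congr 2
      have h2 : (χ : G → ℂ) ((x : G)⁻¹ * s * x) = (χ : G → ℂ) s := by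
        have h1 := irr_isClassFunction χ.2 (s : G) (x : G)⁻¹
        rwa [inv_inv] at h1
      exact h2.symm
  rw [D.mult_spec, D.mult_spec] at e
  exact_mod_cast e

theorem mult_of_mem {χ : Cfsg.IrrCharacter G} {a b : D.Lin} (h : b ∈ D.orbit a) :
    D.mult χ b = D.mult χ a := by
  obtain ⟨x, rfl⟩ := D.mem_orbit.1 h
  exact D.mult_act χ x a

theorem commutator_S : commutator ↥D.S = ⊥ := by
  rw [commutator_def, Subgroup.commutator_eq_bot_iff_le_centralizer]
  exact fun a _ => mem_centralizer_iff.2 fun b _ => Subtype.ext (D.comm b b.2 a a.2)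

/-- The restriction in terms of the multiplicities. -/
theorem apply_eq_sum (χ : Cfsg.IrrCharacter G) (a : D.S) :
    (χ : G → ℂ) a = ∑ l : D.Lin, (D.mult χ l : ℂ) * (l a : ℂ) := by
  classical
  have := Fintype.ofFinite D.S
  simp only [← D.mult_spec, classInner_def, mul_assoc, Finset.sum_mul]
  rw [← Finset.mul_sum, Finset.sum_comm]
  have h : ∀ s : D.S, ∑ l : D.Lin, D.lf l s * (conj ((χ : G → ℂ) s) * (l a : ℂ)) =
      if s = a⁻¹ then (Nat.card D.S : ℂ) * conj ((χ : G → ℂ) s) else 0 := fun s => by
    have e : ∀ l : D.Lin, D.lf l s * (conj ((χ : G → ℂ) s) * (l a : ℂ)) =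
        conj ((χ : G → ℂ) s) * (l (s * a) : ℂ) := fun l => by
      rw [lf, map_mul, Units.val_mul]; ring
    rw [Finset.sum_congr rfl fun l _ => e l, ← Finset.mul_sum, sum_linear_apply, D.commutator_S,
      Subgroup.index_bot]
    simp only [mem_bot, mul_eq_one_iff_eq_inv]
    split_ifs <;> ring
  rw [Finset.sum_congr rfl fun s _ => h s, Finset.sum_ite_eq' Finset.univ a⁻¹,
    if_pos (Finset.mem_univ _), ← mul_assoc, inv_mul_cancel₀ natCard_ne_zero, one_mul,
    Subgroup.coe_inv, char_inv (irr_isCharacter χ.2), Complex.conj_conj]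

end AbData

end CfsgLib.J4Type.Eleven
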