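import Cfsg.Agent.Lib.J4Type.Eleven.CharStab

/-!
How the two classes of involutions of the normaliser act on the two parts of the abelian Sylow
subgroup.
-/

set_option autoImplicit false
set_option linter.unusedSectionVars false
set_option linter.style.haveILetI false

universe u

namespace CfsgLib.J4Type.Eleven

open Subgroup

variable {G : Type u} [Group G] [Finite G] {z t : G}

theorem mul_self_of_two {u : G} (h : orderOf u = 2) : u * u = 1 := by
  rw [← sq, ← h, pow_orderOf_eq_one]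

theorem orderOf_of_isConj {a b : G} (h : IsConj a b) : orderOf b = orderOf a := by
  obtain ⟨c, rfl⟩ := isConj_iff.1 h
  rw [show c * a * c⁻¹ = MulAut.conj c a from rfl, MulEquiv.orderOf_eq]

theorem card_centralizer_conj (a g : G) :
    Nat.card (centralizer ({g * a * g⁻¹} : Set G)) = Nat.card (centralizer ({a} : Set G)) := by
  refine (Nat.card_congr ((MulAut.conj g).toEquiv.subtypeEquiv fun c => ?_)).symm
  change c ∈ centralizer ({a} : Set G) ↔ g * c * g⁻¹ ∈ centralizer ({g * a * g⁻¹} : Set G)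
  simp only [mem_centralizer_singleton_iff]
  constructor
  · intro h
    calc g * c * g⁻¹ * (g * a * g⁻¹) = g * (c * a) * g⁻¹ := by group
      _ = g * (a * c) * g⁻¹ := by rw [h]
      _ = g * a * g⁻¹ * (g * c * g⁻¹) := by group
  · intro h
    calc c * a = g⁻¹ * (g * c * g⁻¹ * (g * a * g⁻¹)) * g := by group
      _ = g⁻¹ * (g * a * g⁻¹ * (g * c * g⁻¹)) * g := by rw [h]
      _ = a * c := by group

theorem card_centralizer_isConj {a b : G} (h : IsConj a b) :
    Nat.card (centralizer ({b} : Set G)) = Nat.card (centralizer ({a} : Set G)) := by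
  obtain ⟨c, rfl⟩ := isConj_iff.1 h
  exact card_centralizer_conj a c

namespace AbData

variable (D : AbData z t)

theorem orderOf_eleven {s : G} (hs : s ∈ D.S) (h1 : s ≠ 1) : orderOf s = 11 :=
  haveI : Fact (Nat.Prime 11) := ⟨by norm_num⟩
  orderOf_eq_prime (D.pow_eleven s hs) h1

theorem eq_one_of_mul_self {s : G} (hs : s ∈ D.S) (h : s * s = 1) : s = 1 := by
  have h11 := D.pow_eleven s hs
  rwa [pow_succ, show (10 : ℕ) = 2 * 5 from rfl, pow_mul, pow_two, h, one_pow, one_mul] at h11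

include D in
theorem orderOf_conj {u : G} (h : IsConj t u ∨ IsConj z u) : orderOf u = 2 := by
  rcases h with h | h <;> rw [orderOf_of_isConj h]
  exacts [D.ord_t, D.ord_z]

include D in
theorem not_sq_dvd {u : G} (h : orderOf u = 2) :
    ¬ 11 ^ 2 ∣ Nat.card (centralizer ({u} : Set G)) := by
  rcases D.two_classes u h with h | h <;> rw [card_centralizer_isConj h]
  · rw [D.card_cz]; norm_num [zOrder]
  · rw [D.card_ct]; norm_num [tOrder]

/-- An involution centralising an element of the inverted part has no conjugate centralising an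
element of the fixed part. -/
theorem not_both {u v w x : G} (huv : IsConj u v) (hu : orderOf u = 2) (hw : w ∈ D.W)
    (hw1 : w ≠ 1) (huw : u * w = w * u) (hx : x ∈ D.X) (hx1 : x ≠ 1) (hvx : v * x = x * v) :
    False := by
  haveI : Fact (Nat.Prime 11) := ⟨by norm_num⟩
  obtain ⟨c, rfl⟩ := isConj_iff.1 huv
  set x' := c⁻¹ * x * c with hx'
  have hux : u * x' = x' * u := by
    calc u * x' = c⁻¹ * (c * u * c⁻¹ * x) * c := by rw [hx']; group
      _ = c⁻¹ * (x * (c * u * c⁻¹)) * c := by rw [hvx]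
      _ = x' * u := by rw [hx']; group
  set C := centralizer ({u} : Set G) with hC
  have hwC : w ∈ C := mem_centralizer_singleton_iff.2 huw.symm
  have hxC : x' ∈ C := mem_centralizer_singleton_iff.2 hux.symm
  have how : orderOf w = 11 := D.orderOf_eleven (D.W_le hw) hw1
  have hox : orderOf x' = 11 := by
    rw [hx', show c⁻¹ * x * c = MulAut.conj c⁻¹ x by simp, MulEquiv.orderOf_eq,
      D.orderOf_eleven (D.X_le hx) hx1]
  have hfac : (Nat.card C).factorization 11 = 1 := by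
    refine le_antisymm ?_ ?_
    · by_contra h
      exact D.not_sq_dvd hu (((by norm_num : Nat.Prime 11).pow_dvd_iff_le_factorization
        Nat.card_pos.ne').2 (show 2 ≤ (Nat.card C).factorization 11 by omega))
    · refine ((by norm_num : Nat.Prime 11).pow_dvd_iff_le_factorization Nat.card_pos.ne').1 ?_
      rw [pow_one, ← how, ← Subgroup.orderOf_mk (a := w) (ha := hwC)]
      exact orderOf_dvd_natCard _
  have hcard : ∀ (a : G) (ha : a ∈ C), orderOf a = 11 →
      Nat.card (zpowers (⟨a, ha⟩ : C)) = 11 ^ (Nat.card C).factorization 11 := fun a ha h => by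
    rw [Nat.card_zpowers, Subgroup.orderOf_mk, h, hfac, pow_one]
  let P : Sylow 11 C := Sylow.ofCard _ (hcard w hwC how)
  let Q : Sylow 11 C := Sylow.ofCard _ (hcard x' hxC hox)
  obtain ⟨g, hg⟩ := MulAction.exists_smul_eq C Q P
  have hm : (g : G) * x' * (g : G)⁻¹ ∈ zpowers w := by
    have h1 : g * ⟨x', hxC⟩ * g⁻¹ ∈ ((g • Q : Sylow 11 C) : Subgroup C) := by
      rw [Sylow.coe_subgroup_smul]
      exact Set.mem_image_of_mem _ (mem_zpowers (⟨x', hxC⟩ : C))
    rw [hg] at h1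
    obtain ⟨k, hk⟩ := mem_zpowers_iff.1 (show g * ⟨x', hxC⟩ * g⁻¹ ∈ zpowers (⟨w, hwC⟩ : C) from h1)
    exact mem_zpowers_iff.2 ⟨k, congrArg (fun a : C => (a : G)) hk⟩
  have hne : (g : G) * x' * (g : G)⁻¹ ≠ 1 := fun e => by
    have h1 : orderOf x' = 1 := orderOf_eq_one_iff.2 (by simpa using e)
    omega
  have h1 := card_centralizer_conj x' (g : G)
  rw [D.card_cent_W _ ((zpowers_le.2 hw) hm) hne, hx', show c⁻¹ * x * c = c⁻¹ * x * c⁻¹⁻¹ by simp,
    card_centralizer_conj, D.card_cent_X x hx hx1] at h1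
  norm_num at h1

theorem exists_z_cent {x : G} (hx : x ∈ D.X) (hx1 : x ≠ 1) :
    ∃ v, IsConj z v ∧ v * x = x * v := by
  haveI : Fact (Nat.Prime 2) := ⟨Nat.prime_two⟩
  obtain ⟨⟨v, hv⟩, hvo⟩ := exists_prime_orderOf_dvd_card' (G := centralizer ({x} : Set G)) 2
    (by rw [D.card_cent_X x hx hx1]; norm_num)
  rw [Subgroup.orderOf_mk] at hvo
  have hvx := mem_centralizer_singleton_iff.1 hv
  refine ⟨v, (D.two_classes v hvo).resolve_right fun h => ?_, hvx⟩
  obtain ⟨w, hw, hw1, htw⟩ := D.t_fix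
  exact D.not_both h D.ord_t hw hw1 htw hx hx1 hvx

theorem exists_X_ne : ∃ x ∈ D.X, x ≠ 1 := by
  haveI : Nontrivial D.X := Finite.one_lt_card_iff_nontrivial.1 (by rw [D.card_X]; norm_num)
  obtain ⟨x, hx⟩ := exists_ne (1 : D.X)
  exact ⟨x, x.2, fun h => hx (Subtype.ext h)⟩

/-- An involution of the first class centralises no nontrivial element of the inverted part. -/
theorem z_no_fix {u w : G} (hu : IsConj z u) (hw : w ∈ D.W) (huw : u * w = w * u) : w = 1 := by
  by_contra hw1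
  obtain ⟨x, hx, hx1⟩ := D.exists_X_ne
  obtain ⟨v, hv, hvx⟩ := D.exists_z_cent hx hx1
  exact D.not_both (hu.symm.trans hv) (D.orderOf_conj (.inr hu)) hw hw1 huw hx hx1 hvx

/-- An involution of the second class centralises no nontrivial element of the fixed part. -/
theorem t_no_fix {u x : G} (hu : IsConj t u) (hx : x ∈ D.X) (hux : u * x = x * u) : x = 1 := by
  by_contra hx1
  obtain ⟨w, hw, hw1, htw⟩ := D.t_fix
  exact D.not_both hu D.ord_t hw hw1 htw hx hx1 hux

theorem cent_W_class {u w : G} (hu : orderOf u = 2) (hw : w ∈ D.W) (hw1 : w ≠ 1)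
    (huw : u * w = w * u) : u ∈ D.N ∧ IsConj t u :=
  ⟨D.cent_le w (D.W_le hw) hw1 (mem_centralizer_singleton_iff.2 huw),
    (D.two_classes u hu).resolve_left fun h => hw1 (D.z_no_fix h hw huw)⟩

theorem conj_W {u w : G} (hu : u ∈ D.N) (hw : w ∈ D.W) : u * w * u⁻¹ ∈ D.W :=
  (mem_normalizer_iff.1 (D.norm_W hu) w).1 hw

theorem conj_X {u x : G} (hu : u ∈ D.N) (hx : x ∈ D.X) : u * x * u⁻¹ ∈ D.X :=
  (mem_normalizer_iff.1 (D.norm_X hu) x).1 hx

theorem conj_S {u s : G} (hu : u ∈ D.N) (hs : s ∈ D.S) : u * s * u⁻¹ ∈ D.S :=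
  (mem_normalizer_iff.1 hu s).1 hs

/-- An involution without fixed points on a part inverts it. -/
theorem inv_of_no_fix {U : Subgroup G} (hU : U ≤ D.S) {u : G} (hu2 : u * u = 1)
    (hn : ∀ a ∈ U, u * a * u⁻¹ ∈ U) (h : ∀ a ∈ U, u * a = a * u → a = 1) :
    ∀ a ∈ U, u * a * u⁻¹ = a⁻¹ := by
  intro a ha
  have hui : u⁻¹ = u := inv_eq_of_mul_eq_one_right hu2
  have h1 : a * (u * a * u⁻¹) = 1 := by
    refine h _ (mul_mem ha (hn a ha)) ?_
    rw [hui]
    calc u * (a * (u * a * u)) = (u * a * u) * a * u := by group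
      _ = a * (u * a * u) * u := by
        rw [D.comm _ (hU (show u * a * u ∈ U by simpa [hui] using hn a ha)) a (hU ha)]
  exact eq_inv_of_mul_eq_one_right h1

theorem z_inv_W {u : G} (hu : IsConj z u) (huN : u ∈ D.N) :
    ∀ w ∈ D.W, u * w * u⁻¹ = w⁻¹ :=
  D.inv_of_no_fix D.W_le (mul_self_of_two (D.orderOf_conj (.inr hu))) (fun _ h => D.conj_W huN h)
    fun _ hw h => D.z_no_fix hu hw h

theorem t_inv_X_of {u : G} (hu : IsConj t u) (huN : u ∈ D.N) :
    ∀ x ∈ D.X, u * x * u⁻¹ = x⁻¹ :=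
  D.inv_of_no_fix D.X_le (mul_self_of_two (D.orderOf_conj (.inl hu))) (fun _ h => D.conj_X huN h)
    fun _ hx h => D.t_no_fix hu hx h

/-- The elements inverted by an element. -/
def invSet (u : G) : Subgroup G where
  carrier := {s | s ∈ D.S ∧ u * s * u⁻¹ = s⁻¹}
  one_mem' := ⟨one_mem _, by simp⟩
  mul_mem' {a b} ha hb := ⟨mul_mem ha.1 hb.1, by
    rw [show u * (a * b) * u⁻¹ = (u * a * u⁻¹) * (u * b * u⁻¹) by group, ha.2, hb.2,
      ← mul_inv_rev, D.comm b hb.1 a ha.1]⟩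
  inv_mem' {a} ha := ⟨inv_mem ha.1, by
    rw [show u * a⁻¹ * u⁻¹ = (u * a * u⁻¹)⁻¹ by group, ha.2]⟩

theorem mem_invSet {u s : G} : s ∈ D.invSet u ↔ s ∈ D.S ∧ u * s * u⁻¹ = s⁻¹ := Iff.rfl

theorem card_inv_mul_fix {U : Subgroup G} (hU : U ≤ D.S) {u : G} (hu2 : u * u = 1)
    (hn : ∀ a ∈ U, u * a * u⁻¹ ∈ U) :
    Nat.card ↥(U ⊓ D.invSet u) * Nat.card ↥(U ⊓ centralizer ({u} : Set G)) = Nat.card U := by
  have hui : u⁻¹ = u := inv_eq_of_mul_eq_one_right hu2
  let ψ : U →* U := MonoidHom.mk' (fun a => a * ⟨u * a * u⁻¹, hn a a.2⟩⁻¹) fun a b => Subtype.ext (by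
    simp only [Subgroup.coe_mul, Subgroup.coe_inv]
    have hc : ∀ p q : G, p ∈ U → q ∈ U → p * q = q * p := fun p q hp hq =>
      D.comm p (hU hp) q (hU hq)
    calc (a : G) * b * (u * (a * b) * u⁻¹)⁻¹
        = a * (b * (u * b * u⁻¹)⁻¹ * (u * a * u⁻¹)⁻¹) := by group
      _ = a * ((u * a * u⁻¹)⁻¹ * (b * (u * b * u⁻¹)⁻¹)) := by
          rw [hc (b * (u * b * u⁻¹)⁻¹) ((u * a * u⁻¹)⁻¹) (mul_mem b.2 (inv_mem (hn b b.2)))
            (inv_mem (hn a a.2))]
      _ = a * (u * a * u⁻¹)⁻¹ * (b * (u * b * u⁻¹)⁻¹) := by group)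
  have hker : ψ.ker = (U ⊓ centralizer ({u} : Set G)).subgroupOf U := by
    ext a
    rw [MonoidHom.mem_ker, Subtype.ext_iff, mem_subgroupOf, mem_inf,
      mem_centralizer_singleton_iff]
    change (a : G) * (u * a * u⁻¹)⁻¹ = 1 ↔ _
    rw [mul_inv_eq_one]
    constructor
    · intro h
      exact ⟨a.2, by nth_rewrite 1 [h]; group⟩
    · rintro ⟨-, h⟩
      rw [← h]; group
  have hrange : ψ.range = (U ⊓ D.invSet u).subgroupOf U := by
    ext b
    rw [MonoidHom.mem_range, mem_subgroupOf, mem_inf, mem_invSet]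
    constructor
    · rintro ⟨a, rfl⟩
      refine ⟨(ψ a).2, hU (ψ a).2, ?_⟩
      change u * ((a : G) * (u * a * u⁻¹)⁻¹) * u⁻¹ = ((a : G) * (u * a * u⁻¹)⁻¹)⁻¹
      rw [hui]
      have : u * u * (a : G)⁻¹ * (u * u) = (a : G)⁻¹ := by rw [hu2]; group
      calc u * ((a : G) * (u * a * u)⁻¹) * u = u * a * u⁻¹ * (a : G)⁻¹ * (u⁻¹ * u) := by group
        _ = ((a : G) * (u * a * u)⁻¹)⁻¹ := by rw [hui, hu2]; group
    · rintro ⟨-, -, hb⟩
      refine ⟨b ^ 6, Subtype.ext ?_⟩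
      change ((b ^ 6 : U) : G) * (u * ((b ^ 6 : U) : G) * u⁻¹)⁻¹ = b
      rw [Subgroup.coe_pow, ← conj_pow, hb, inv_pow, inv_inv, ← pow_add, pow_succ,
        D.pow_eleven _ (hU b.2), one_mul]
  have h := ψ.ker.card_mul_index
  rw [Subgroup.index_ker, hker, hrange, Nat.card_congr (subgroupOfEquivOfLe inf_le_left).toEquiv,
    Nat.card_congr (subgroupOfEquivOfLe inf_le_left).toEquiv] at h
  rw [mul_comm]
  exact h

theorem fix_le_W {u : G} (hu : IsConj t u) (huN : u ∈ D.N) :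
    D.S ⊓ centralizer ({u} : Set G) ≤ D.W := by
  rintro s ⟨hs, hsu⟩
  obtain ⟨⟨a, b⟩, hab⟩ := D.prodEquiv.surjective ⟨s, hs⟩
  have e : s = a * b := by rw [← D.prodEquiv_val a b, hab]
  have ha := D.t_inv_X_of hu huN a a.2
  have hb := D.conj_W huN b.2
  have h1 : u * s * u⁻¹ = (a : G)⁻¹ * (u * b * u⁻¹) := by
    rw [e, ← ha]; group
  rw [show u * s = s * u from (mem_centralizer_singleton_iff.1 hsu).symm, mul_inv_cancel_right,
    e] at h1
  have h2 : (a : G) * a = (u * b * u⁻¹) * (b : G)⁻¹ := by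
    calc (a : G) * a = a * ((a : G) * b) * (b : G)⁻¹ := by group
      _ = a * ((a : G)⁻¹ * (u * b * u⁻¹)) * (b : G)⁻¹ := by rw [h1]
      _ = (u * b * u⁻¹) * (b : G)⁻¹ := by group
  have h3 : (a : G) * a ∈ D.X ⊓ D.W :=
    ⟨mul_mem a.2 a.2, show (a : G) * a ∈ D.W by rw [h2]; exact mul_mem hb (inv_mem b.2)⟩
  rw [D.disjoint, mem_bot] at h3
  rw [e, D.eq_one_of_mul_self (D.X_le a.2) h3, one_mul]
  exact b.2

theorem card_inv_t {u : G} (hu : IsConj t u) (huN : u ∈ D.N) :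
    Nat.card (D.invSet u) = 121 ∧ Nat.card ↥(D.W ⊓ D.invSet u) = 11 ∧
      Nat.card ↥(D.W ⊓ centralizer ({u} : Set G)) = 11 := by
  have hu2 := mul_self_of_two (D.orderOf_conj (.inl hu))
  have hf := D.card_fix u huN hu
  have h1 := D.card_inv_mul_fix le_rfl hu2 fun _ h => D.conj_S huN h
  rw [hf, D.card_S, inf_of_le_right (fun s hs => hs.1 : D.invSet u ≤ D.S)] at h1
  have e : D.W ⊓ centralizer ({u} : Set G) = D.S ⊓ centralizer ({u} : Set G) :=
    le_antisymm (inf_le_inf_right _ D.W_le) (le_inf (D.fix_le_W hu huN) inf_le_right)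
  have h2 := D.card_inv_mul_fix D.W_le hu2 fun _ h => D.conj_W huN h
  rw [e, hf, D.card_W] at h2
  refine ⟨by omega, by omega, by rw [e, hf]⟩

theorem eq_of_le_of_card_eleven {H K : Subgroup G} (h : H ≤ K) (hH : Nat.card H = 11)
    (hK : Nat.card K = 11) : H = K :=
  eq_of_le_of_card_ge h (by rw [hH, hK])

theorem exists_ne_one_of_card {H : Subgroup G} (hH : Nat.card H = 11) : ∃ a ∈ H, a ≠ 1 := by
  haveI : Nontrivial H := Finite.one_lt_card_iff_nontrivial.1 (by rw [hH]; norm_num)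
  obtain ⟨a, ha⟩ := exists_ne (1 : H)
  exact ⟨a, a.2, fun h => ha (Subtype.ext h)⟩

/-- The inverted line determines the centralised one. -/
theorem fix_eq_of_inv_eq {u u' : G} (hu : IsConj t u) (huN : u ∈ D.N) (hu' : IsConj t u')
    (huN' : u' ∈ D.N) (h : D.W ⊓ D.invSet u = D.W ⊓ D.invSet u') :
    D.W ⊓ centralizer ({u} : Set G) = D.W ⊓ centralizer ({u'} : Set G) := by
  have hu2 := mul_self_of_two (D.orderOf_conj (.inl hu))
  have hu2' := mul_self_of_two (D.orderOf_conj (.inl hu'))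
  have hi : u⁻¹ = u := inv_eq_of_mul_eq_one_right hu2
  have hi' : u'⁻¹ = u' := inv_eq_of_mul_eq_one_right hu2'
  obtain ⟨-, hL, hF⟩ := D.card_inv_t hu huN
  obtain ⟨-, hL', hF'⟩ := D.card_inv_t hu' huN'
  by_contra hne
  obtain ⟨l, ⟨hlW, hlS, hl⟩, hl1⟩ := exists_ne_one_of_card hL
  have hl' : u' * l * u'⁻¹ = l⁻¹ :=
    ((h ▸ (show l ∈ D.W ⊓ D.invSet u from ⟨hlW, hlS, hl⟩)) : l ∈ D.W ⊓ D.invSet u').2.2
  obtain ⟨f, ⟨hfW, hfu⟩, hf1⟩ := exists_ne_one_of_card hF
  replace hfu : u * f = f * u := (mem_centralizer_singleton_iff.1 hfu).symm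
  -- the product centralises the inverted line
  have hm : u' * u * l = l * (u' * u) := by
    calc u' * u * l = u' * (u * l * u⁻¹) * u := by group
      _ = (u' * l * u'⁻¹)⁻¹ * u' * u := by rw [hl]; group
      _ = l * (u' * u) := by rw [hl', inv_inv, mul_assoc]
  have hm2 : u' * u * (u' * u) ∈ D.S := by
    by_cases hS : u' * u ∈ D.S
    · exact mul_mem hS hS
    · exact D.mul_mem_of_cent hlW hl1 hm hm hS hS
  -- so the second involution normalises the line centralised by the first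
  have hconj : u * (u' * f * u'⁻¹) = (u' * f * u'⁻¹) * u := by
    have h0 : u' * u * (u' * u) * f = f * (u' * u * (u' * u)) :=
      D.comm _ hm2 f (D.W_le hfW)
    have h1 : u' * u * (u' * f * u'⁻¹) * (u' * u)⁻¹ = f := by
      calc u' * u * (u' * f * u'⁻¹) * (u' * u)⁻¹
          = u' * u * (u' * u) * (u⁻¹ * f * u) * (u' * u * (u' * u))⁻¹ := by group
        _ = f := by
          rw [show u⁻¹ * f * u = f by rw [mul_assoc, ← hfu, inv_mul_cancel_left], h0,
            mul_inv_cancel_right]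
    calc u * (u' * f * u'⁻¹) = u'⁻¹ * (u' * u * (u' * f * u'⁻¹) * (u' * u)⁻¹) * u' * u := by group
      _ = u'⁻¹ * f * u' * u := by rw [h1]
      _ = (u' * f * u'⁻¹) * u := by rw [hi']
  have hfixed : f * (u' * f * u'⁻¹) ∈ D.W ⊓ centralizer ({u} : Set G) :=
    ⟨mul_mem hfW (D.conj_W huN' hfW), mem_centralizer_singleton_iff.2
      (by rw [mul_assoc, ← hconj, ← mul_assoc, ← hfu, mul_assoc])⟩
  have hfixed' : f * (u' * f * u'⁻¹) ∈ D.W ⊓ centralizer ({u'} : Set G) :=
    ⟨mul_mem hfW (D.conj_W huN' hfW), mem_centralizer_singleton_iff.2 (by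
      have hc := D.comm f (D.W_le hfW) _ (D.W_le (D.conj_W huN' hfW))
      calc f * (u' * f * u'⁻¹) * u' = f * (u' * f) := by group
        _ = u' * (u'⁻¹ * f * u') * f := by group
        _ = u' * ((u' * f * u'⁻¹) * f) := by rw [hi', mul_assoc]
        _ = u' * (f * (u' * f * u'⁻¹)) := by rw [← hc])⟩
  have hone : f * (u' * f * u'⁻¹) = 1 := by
    by_contra h1
    refine hne (le_antisymm ?_ ?_) <;>
    · intro g hg
      have hgen : ∀ H : Subgroup G, Nat.card H = 11 → f * (u' * f * u'⁻¹) ∈ H →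
          zpowers (f * (u' * f * u'⁻¹)) = H := fun H hH hmem =>
        eq_of_le_of_card_eleven (zpowers_le.2 hmem) (by
          rw [Nat.card_zpowers, D.orderOf_eleven (D.W_le (mul_mem hfW (D.conj_W huN' hfW))) h1]) hH
      rw [← hgen _ hF hfixed] at *
      rw [← hgen _ hF' hfixed'] at *
      exact hg
  have hfL : f ∈ D.W ⊓ D.invSet u :=
    h ▸ (show f ∈ D.W ⊓ D.invSet u' from
      ⟨hfW, D.W_le hfW, eq_inv_of_mul_eq_one_right hone⟩)
  have hff : f = f⁻¹ := by
    conv_lhs => rw [show f = u * f * u⁻¹ by rw [hfu, mul_inv_cancel_right]]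
    exact hfL.2.2
  exact hf1 (D.eq_one_of_mul_self (D.W_le hfW) (by nth_rewrite 2 [hff]; exact mul_inv_cancel f))

/-- Two involutions centralising a common element of the inverted part agree on the inverted
line. -/
theorem inv_eq_of_common {u u' w : G} (hw : w ∈ D.W) (hw1 : w ≠ 1) (hu : u * w = w * u)
    (hu' : u' * w = w * u') (huS : u ∉ D.S) (huS' : u' ∉ D.S) (hu2 : u * u = 1) :
    D.W ⊓ D.invSet u = D.W ⊓ D.invSet u' := by
  have hs := D.mul_mem_of_cent hw hw1 hu hu' huS huS'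
  have key : ∀ a ∈ D.S, u' * a * u'⁻¹ = u * a * u⁻¹ := fun a ha => by
    calc u' * a * u'⁻¹ = (u * u) * u' * a * u'⁻¹ * (u * u)⁻¹ := by rw [hu2]; group
      _ = u * ((u * u') * a * (u * u')⁻¹) * u⁻¹ := by group
      _ = u * a * u⁻¹ := by rw [D.comm _ hs a ha, mul_inv_cancel_right]
  ext a
  simp only [mem_inf, mem_invSet]
  exact and_congr_right fun _ => and_congr_right fun ha => by rw [key a ha]

theorem not_mem_of_two {u : G} (hu : orderOf u = 2) : u ∉ D.S := fun h => by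
  have h1 := Subgroup.orderOf_dvd_natCard D.S h
  rw [hu, D.card_S] at h1
  norm_num at h1

theorem exists_invol_cent {w : G} (hw : w ∈ D.W) (hw1 : w ≠ 1) :
    ∃ u, orderOf u = 2 ∧ u * w = w * u := by
  haveI : Fact (Nat.Prime 2) := ⟨Nat.prime_two⟩
  obtain ⟨⟨v, hv⟩, hvo⟩ := exists_prime_orderOf_dvd_card' (G := centralizer ({w} : Set G)) 2
    (by rw [D.card_cent_W w hw hw1]; norm_num)
  rw [Subgroup.orderOf_mk] at hvo
  exact ⟨v, hvo, mem_centralizer_singleton_iff.1 hv⟩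

/-- The involutions of the second class inverting a given line form a single coset part. -/
theorem exists_line (K : Subgroup G) (hK : K ≤ D.W) (hKc : Nat.card K = 11) :
    ∃ u₀, IsConj t u₀ ∧ u₀ ∈ D.N ∧ ∀ u, (IsConj t u ∧ u ∈ D.N ∧ D.W ⊓ D.invSet u = K) ↔
      ∃ s ∈ D.invSet u₀, u = u₀ * s := by
  let Line := {H : Subgroup G // H ≤ D.W ∧ Nat.card H = 11}
  have hgen : ∀ H : Line, ∃ u w, w ∈ H.1 ∧ w ≠ 1 ∧ IsConj t u ∧ u ∈ D.N ∧ u * w = w * u := by
    intro H
    obtain ⟨w, hw, hw1⟩ := exists_ne_one_of_card H.2.2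
    obtain ⟨u, hu, huw⟩ := D.exists_invol_cent (H.2.1 hw) hw1
    obtain ⟨hN, hc⟩ := D.cent_W_class hu (H.2.1 hw) hw1 huw
    exact ⟨u, w, hw, hw1, hc, hN, huw⟩
  choose U Wg hWg hW1 hUc hUN hUw using hgen
  have hfix : ∀ H : Line, D.W ⊓ centralizer ({U H} : Set G) = H.1 := fun H => by
    have hz : zpowers (Wg H) = H.1 := eq_of_le_of_card_eleven (zpowers_le.2 (hWg H)) (by
      rw [Nat.card_zpowers, D.orderOf_eleven (D.W_le (H.2.1 (hWg H))) (hW1 H)]) H.2.2
    refine (eq_of_le_of_card_eleven ?_ H.2.2 (D.card_inv_t (hUc H) (hUN H)).2.2).symm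
    rw [← hz, zpowers_le]
    exact ⟨H.2.1 (hWg H), mem_centralizer_singleton_iff.2 (hUw H).symm⟩
  let Φ : Line → Line := fun H =>
    ⟨D.W ⊓ D.invSet (U H), inf_le_left, (D.card_inv_t (hUc H) (hUN H)).2.1⟩
  have hinj : Function.Injective Φ := fun H H' e => by
    have h1 := D.fix_eq_of_inv_eq (hUc H) (hUN H) (hUc H') (hUN H') (congrArg Subtype.val e)
    rw [hfix, hfix] at h1
    exact Subtype.ext h1
  obtain ⟨H, hH⟩ := (Finite.injective_iff_surjective.1 hinj) ⟨K, hK, hKc⟩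
  have hL : D.W ⊓ D.invSet (U H) = K := congrArg Subtype.val hH
  refine ⟨U H, hUc H, hUN H, fun u => ⟨?_, ?_⟩⟩
  · rintro ⟨hu, huN, huK⟩
    have h1 := D.fix_eq_of_inv_eq hu huN (hUc H) (hUN H) (huK.trans hL.symm)
    have hw : Wg H ∈ D.W ⊓ centralizer ({u} : Set G) := by
      rw [h1, hfix]; exact hWg H
    have huw : u * Wg H = Wg H * u := (mem_centralizer_singleton_iff.1 hw.2).symm
    have hS := D.mul_mem_of_cent (H.2.1 (hWg H)) (hW1 H) (hUw H) huw
      (D.not_mem_of_two (D.orderOf_conj (.inl (hUc H))))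
      (D.not_mem_of_two (D.orderOf_conj (.inl hu)))
    have h2 := mul_self_of_two (D.orderOf_conj (.inl (hUc H)))
    have h2' := mul_self_of_two (D.orderOf_conj (.inl hu))
    refine ⟨U H * u, ⟨hS, ?_⟩, by rw [← mul_assoc, h2, one_mul]⟩
    rw [mul_inv_rev, inv_eq_of_mul_eq_one_right h2, inv_eq_of_mul_eq_one_right h2', ← mul_assoc,
      h2, one_mul]
  · rintro ⟨s, ⟨hs, hsu⟩, rfl⟩
    have h2 := mul_self_of_two (D.orderOf_conj (.inl (hUc H)))
    have huw : U H * s * Wg H = Wg H * (U H * s) := by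
      rw [mul_assoc, D.comm s hs _ (D.W_le (H.2.1 (hWg H))), ← mul_assoc, hUw H, mul_assoc]
    have ho : orderOf (U H * s) = 2 := by
      refine orderOf_eq_prime ?_ fun e => D.not_mem_of_two (D.orderOf_conj (.inl (hUc H))) ?_
      · rw [pow_two, show U H * s * (U H * s) = (U H * s * (U H)⁻¹) * (U H * U H) * s by group,
          hsu, h2, mul_one, inv_mul_cancel]
      · rw [eq_inv_of_mul_eq_one_left e]; exact inv_mem hs
    obtain ⟨hN, hc⟩ := D.cent_W_class ho (H.2.1 (hWg H)) (hW1 H) huw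
    refine ⟨hc, hN, hL ▸ (D.inv_eq_of_common (H.2.1 (hWg H)) (hW1 H) (hUw H) huw
      (D.not_mem_of_two (D.orderOf_conj (.inl (hUc H)))) (D.not_mem_of_two ho) h2).symm⟩

theorem count_line (K : Subgroup G) (hK : K ≤ D.W) (hKc : Nat.card K = 11) :
    Nat.card {u : G // IsConj t u ∧ u ∈ D.N ∧ D.W ⊓ D.invSet u = K} = 121 := by
  obtain ⟨u₀, hu, huN, h⟩ := D.exists_line K hK hKc
  rw [← (D.card_inv_t hu huN).1]
  refine (Nat.card_eq_of_bijective
    (fun s : D.invSet u₀ => ⟨u₀ * s, (h _).2 ⟨s, s.2, rfl⟩⟩) ⟨fun a b e => ?_, fun u => ?_⟩).symm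
  · exact Subtype.ext (mul_left_cancel (congrArg Subtype.val e))
  · obtain ⟨s, hs, he⟩ := (h u).1 u.2
    exact ⟨⟨s, hs⟩, Subtype.ext he.symm⟩

end AbData

end CfsgLib.J4Type.Eleven
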