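import Cfsg.Agent.Lib.J4Type.Eleven.CharFacts
import Cfsg.Agent.Lib.J4Type.Eleven.CharInvol
import Cfsg.Agent.Lib.TISylow.Setting

/-!
Pairs of involutions of one class with product in the Sylow subgroup, and the resulting relations
between the values of the seven characters at the involutions.
-/

set_option autoImplicit false
set_option linter.unusedSectionVars false
set_option linter.style.haveILetI false

universe u

namespace CfsgLib.J4Type.Eleven

open Subgroup CfsgLib.Char
open scoped ComplexConjugate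

variable {G : Type u} [Group G] [Fintype G] {z t : G}

/-- The number of pairs of conjugates of `a` with a given product, as a function. -/
noncomputable def pairFun (a : G) : G → ℂ := fun g => (CfsgLib.TISylow.pairCount G a a g : ℂ)

theorem pairFun_isClass (a : G) : Cfsg.IsClassFunction G (pairFun a) := by
  have := Fintype.ofFinite (Cfsg.IrrCharacter G)
  intro g h
  simp only [pairFun, CfsgLib.TISylow.pairCount_eq_sum]
  congr 1
  exact Finset.sum_congr rfl fun χ _ => by rw [irr_isClassFunction χ.2 g h]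

theorem inner_pairFun (χ : Cfsg.IrrCharacter G) (a : G) :
    Cfsg.classInner (χ : G → ℂ) (pairFun a) =
      (Nat.card G : ℂ) * ((χ : G → ℂ) a * (χ : G → ℂ) a / (χ : G → ℂ) 1) := by
  classical
  have := Fintype.ofFinite (Cfsg.IrrCharacter G)
  have h : pairFun a = ∑ ψ : Cfsg.IrrCharacter G, ((Nat.card G : ℂ) *
      conj ((ψ : G → ℂ) a * (ψ : G → ℂ) a / (ψ : G → ℂ) 1)) • (ψ : G → ℂ) := by
    funext g
    simp only [pairFun, CfsgLib.TISylow.pairCount_eq_sum, Finset.sum_apply, Pi.smul_apply,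
      smul_eq_mul, Finset.mul_sum, mul_assoc]
  rw [h, classInner_sum_right, Finset.sum_eq_single χ]
  · rw [classInner_smul_right, irr_classInner_self χ.2, mul_one, map_mul, map_natCast,
      Complex.conj_conj]
  · intro ψ _ hne
    rw [classInner_smul_right, irr_classInner_ne χ.2 ψ.2 fun e => hne (Subtype.ext e).symm,
      mul_zero]
  · simp

open scoped Classical in
theorem card_conjugators {a u : G} (h : IsConj a u) :
    (Finset.univ.filter fun g : G => g * a * g⁻¹ = u).card =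
      Nat.card (centralizer ({a} : Set G)) := by
  obtain ⟨c, rfl⟩ := isConj_iff.1 h
  rw [← Fintype.card_subtype, ← Nat.card_eq_fintype_card]
  refine Nat.card_congr ((Equiv.mulLeft c⁻¹).subtypeEquiv fun g => ?_)
  rw [Equiv.coe_mulLeft, mem_centralizer_singleton_iff]
  constructor
  · intro h
    calc c⁻¹ * g * a = c⁻¹ * (g * a * g⁻¹) * g := by group
      _ = a * (c⁻¹ * g) := by rw [h]; group
  · intro h
    calc g * a * g⁻¹ = c * (c⁻¹ * g * a) * g⁻¹ := by group
      _ = c * a * c⁻¹ := by rw [h]; group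

namespace AbData

variable {D : AbData z t}

open scoped Classical in
theorem pairCount_S {a : G} (ha : orderOf a = 2) {s : G} (hs : s ∈ D.S) :
    CfsgLib.TISylow.pairCount G a a s = Nat.card (centralizer ({a} : Set G)) ^ 2 *
      (Finset.univ.filter fun v : G => IsConj a v ∧ v * s * v⁻¹ = s⁻¹).card := by
  rw [CfsgLib.TISylow.pairCount, Nat.card_eq_fintype_card, Fintype.card_subtype]
  set A := (Finset.univ : Finset (G × G)).filter
    fun p => p.1 * a * p.1⁻¹ * (p.2 * a * p.2⁻¹) = s with hA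
  set U := Finset.univ.filter fun v : G => IsConj a v ∧ v * s * v⁻¹ = s⁻¹ with hU
  have hmap : ∀ p ∈ A, p.1 * a * p.1⁻¹ ∈ U := by
    intro p hp
    have hp' := (Finset.mem_filter.1 hp).2
    have hu : orderOf (p.1 * a * p.1⁻¹) = 2 :=
      (orderOf_of_isConj (isConj_iff.2 ⟨p.1, rfl⟩)).trans ha
    have hv : orderOf (p.2 * a * p.2⁻¹) = 2 :=
      (orderOf_of_isConj (isConj_iff.2 ⟨p.2, rfl⟩)).trans ha
    refine Finset.mem_filter.2 ⟨Finset.mem_univ _, isConj_iff.2 ⟨p.1, rfl⟩, ?_⟩
    rw [← hp']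
    generalize p.1 * a * p.1⁻¹ = v at hu ⊢
    generalize p.2 * a * p.2⁻¹ = w at hv ⊢
    rw [mul_inv_rev, inv_eq_of_mul_eq_one_right (mul_self_of_two hu),
      inv_eq_of_mul_eq_one_right (mul_self_of_two hv), ← mul_assoc v v, mul_self_of_two hu, one_mul]
  have hfib : ∀ v ∈ U, (A.filter fun p => p.1 * a * p.1⁻¹ = v).card =
      Nat.card (centralizer ({a} : Set G)) ^ 2 := by
    intro v hv
    obtain ⟨hav, hinv⟩ := (Finset.mem_filter.1 hv).2
    have hv2 : v * v = 1 := mul_self_of_two ((orderOf_of_isConj hav).trans ha)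
    have hvv : v⁻¹ = v := inv_eq_of_mul_eq_one_right hv2
    have hr : IsConj a (v * s) := by
      refine hav.trans (isConj_iff.2 ⟨(s ^ 6)⁻¹, ?_⟩)
      rw [inv_inv]
      have h6 : v * (s ^ 6)⁻¹ * v⁻¹ = s ^ 6 := by
        rw [← inv_pow, ← conj_pow, show v * s⁻¹ * v⁻¹ = (v * s * v⁻¹)⁻¹ by group, hinv, inv_inv]
      calc (s ^ 6)⁻¹ * v * s ^ 6 = v * v * ((s ^ 6)⁻¹ * v * s ^ 6) := by rw [hv2, one_mul]
        _ = v * (v * (s ^ 6)⁻¹ * v⁻¹) * s ^ 6 := by rw [hvv]; group
        _ = v * s := by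
          rw [h6, mul_assoc, ← pow_add, pow_succ, D.pow_eleven s hs, one_mul]
    have e : A.filter (fun p => p.1 * a * p.1⁻¹ = v) =
        (Finset.univ.filter fun g : G => g * a * g⁻¹ = v) ×ˢ
          (Finset.univ.filter fun g : G => g * a * g⁻¹ = v * s) := by
      ext ⟨g, k⟩
      simp only [hA, Finset.mem_filter, Finset.mem_univ, true_and, Finset.mem_product]
      constructor
      · rintro ⟨h1, h2⟩
        refine ⟨h2, ?_⟩
        rw [h2] at h1
        calc k * a * k⁻¹ = v * v * (k * a * k⁻¹) := by rw [hv2, one_mul]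
          _ = v * (v * (k * a * k⁻¹)) := by rw [mul_assoc]
          _ = v * s := by rw [h1]
      · rintro ⟨h1, h2⟩
        exact ⟨by rw [h1, h2, ← mul_assoc, hv2, one_mul], h1⟩
    rw [e, Finset.card_product, card_conjugators hav, card_conjugators hr, sq]
  rw [Finset.card_eq_sum_card_fiberwise hmap, Finset.sum_congr rfl hfib, Finset.sum_const,
    smul_eq_mul, mul_comm]

open scoped Classical in
theorem sum_lin_inv [Fintype D.S] (l : D.Lin) (v : G) :
    ∑ s : D.S, (if v * (s : G) * v⁻¹ = (s : G)⁻¹ then (l s : ℂ) else 0) =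
      if ∀ s : D.S, (s : G) ∈ D.invSet v → l s = 1 then (Nat.card (D.invSet v) : ℂ) else 0 := by
  have hiff : ∀ s : D.S, (v * (s : G) * v⁻¹ = (s : G)⁻¹) ↔ (s : G) ∈ D.invSet v := fun s =>
    ⟨fun h => ⟨s.2, h⟩, fun h => h.2⟩
  simp only [hiff]
  split_ifs with h
  · rw [← Finset.sum_filter, Finset.sum_congr rfl (g := fun _ => (1 : ℂ)) (fun s hs => by
      rw [h s (Finset.mem_filter.1 hs).2, Units.val_one]), Finset.sum_const, nsmul_eq_mul, mul_one,
      ← Fintype.card_subtype, ← Nat.card_eq_fintype_card,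
      Nat.card_congr (Equiv.subtypeSubtypeEquivSubtype
        (p := fun x => x ∈ D.S) (q := fun x => x ∈ D.invSet v) (fun hx => hx.1))]
  · push Not at h
    obtain ⟨b, hb, hb1⟩ := h
    set T := ∑ s : D.S, (if (s : G) ∈ D.invSet v then (l s : ℂ) else 0) with hT
    have h2 : (l b : ℂ) * T = T := by
      rw [hT, Finset.mul_sum]
      refine Fintype.sum_equiv (Equiv.mulLeft b) _ _ fun s => ?_
      simp only [Equiv.coe_mulLeft, Subgroup.coe_mul, (D.invSet v).mul_mem_cancel_left hb, map_mul,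
        Units.val_mul, mul_ite, mul_zero]
    by_contra h0
    exact hb1 (Units.ext (mul_right_cancel₀ h0 (h2.trans (one_mul _).symm)))

open scoped Classical in
/-- The sum of the difference of two linear characters over the inverted elements. -/
noncomputable def invSum [Fintype D.S] (a b : D.Lin) (v : G) : ℂ :=
  ∑ s : D.S, if v * (s : G) * v⁻¹ = (s : G)⁻¹ then (D.lf a - D.lf b) s else 0

theorem invSum_outside [Fintype D.S] (a b : D.Lin) {v : G} (hv : v ∉ D.N) : invSum a b v = 0 := by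
  classical
  refine Finset.sum_eq_zero fun s _ => ?_
  split_ifs with h
  · rw [show s = 1 from Subtype.ext (D.ti v hv s s.2 (by rw [h]; exact inv_mem s.2)),
      Pi.sub_apply, lf_one, lf_one, sub_self]
  · rfl

open scoped Classical in
theorem invSum_eq [Fintype D.S] (a b : D.Lin) (v : G) :
    invSum a b v =
      (if ∀ s : D.S, (s : G) ∈ D.invSet v → a s = 1 then (Nat.card (D.invSet v) : ℂ) else 0) -
      (if ∀ s : D.S, (s : G) ∈ D.invSet v → b s = 1 then (Nat.card (D.invSet v) : ℂ) else 0) := by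
  rw [← sum_lin_inv, ← sum_lin_inv, ← Finset.sum_sub_distrib]
  refine Finset.sum_congr rfl fun s _ => ?_
  simp only [Pi.sub_apply, lf]
  split_ifs <;> simp

theorem invSum_z [Fintype D.S] (R : Reps D) (i : Fin 5) {v : G} (hv : IsConj z v) :
    invSum (R.free i) R.wl v = 0 := by
  classical
  by_cases hN : v ∈ D.N
  · have hW : ∀ {l : D.Lin}, D.resW l ≠ 1 → ¬ ∀ s : D.S, (s : G) ∈ D.invSet v → l s = 1 := by
      intro l hl h
      obtain ⟨b, hb⟩ := DFunLike.ne_iff.1 hl
      exact hb (h ⟨b, D.W_le b.2⟩ ⟨D.W_le b.2, D.z_inv_W hv hN b b.2⟩)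
    rw [invSum_eq, if_neg (hW (R.free_isFree i).2), if_neg (hW R.wl_isW.2), sub_zero]
  · exact invSum_outside _ _ hN

/-- The kernel on the inverted part. -/
def kerW (l : D.Lin) : Subgroup G := (D.resW l).ker.map D.W.subtype

theorem card_kerW {l : D.Lin} (h : D.resW l ≠ 1) : Nat.card (kerW l) = 11 := by
  rw [kerW, ← Nat.card_congr ((D.resW l).ker.equivMapOfInjective _ D.W.subtype_injective).toEquiv]
  have hmul := (D.resW l).ker.card_mul_index
  rw [Subgroup.index_ker, D.card_W] at hmul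
  have hle : (D.resW l).range ≤ rootsOfUnity 11 ℂ := by
    rintro _ ⟨a, rfl⟩
    rw [mem_rootsOfUnity, ← map_pow,
      show a ^ 11 = 1 from Subtype.ext (by rw [Subgroup.coe_pow]; exact D.pow_eleven _ (D.W_le a.2)),
      map_one]
  have hd : Nat.card (D.resW l).range ∣ 11 := by
    have h1 := card_dvd_of_le hle
    rwa [Complex.card_rootsOfUnity] at h1
  rcases (Nat.dvd_prime (by norm_num : Nat.Prime 11)).1 hd with h1 | h1
  · refine absurd (MonoidHom.ext fun a => ?_) h
    have : (D.resW l) a ∈ (D.resW l).range := ⟨a, rfl⟩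
    rw [Subgroup.card_eq_one.1 h1, mem_bot] at this
    exact this
  · rw [h1] at hmul; omega

theorem invSum_t [Fintype D.S] (R : Reps D) (i : Fin 5) {v : G} (hv : IsConj t v) [Decidable
    (v ∈ D.N ∧ D.W ⊓ D.invSet v = kerW R.wl)] :
    invSum (R.free i) R.wl v =
      if v ∈ D.N ∧ D.W ⊓ D.invSet v = kerW R.wl then -121 else 0 := by
  classical
  by_cases hN : v ∈ D.N
  · obtain ⟨hI, hL, -⟩ := D.card_inv_t hv hN
    have hr : ¬ ∀ s : D.S, (s : G) ∈ D.invSet v → R.free i s = 1 := fun h => by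
      obtain ⟨a, ha⟩ := DFunLike.ne_iff.1 (R.free_isFree i).1
      exact ha (h ⟨a, D.X_le a.2⟩ ⟨D.X_le a.2, D.t_inv_X_of hv hN a a.2⟩)
    have hiff : (∀ s : D.S, (s : G) ∈ D.invSet v → R.wl s = 1) ↔
        D.W ⊓ D.invSet v = kerW R.wl := by
      constructor
      · intro h
        refine eq_of_le_of_card_eleven ?_ hL (card_kerW R.wl_isW.2)
        rintro w ⟨hw, hwI⟩
        exact ⟨⟨w, hw⟩, h ⟨w, D.W_le hw⟩ hwI, rfl⟩
      · intro h s hs
        obtain ⟨⟨a, b⟩, rfl⟩ := D.prodEquiv.surjective s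
        rw [D.prodEquiv_val] at hs
        have hb : (b : G) ∈ D.W ⊓ D.invSet v := by
          refine ⟨b.2, ?_⟩
          rwa [Subgroup.mul_mem_cancel_left _ (show (a : G) ∈ D.invSet v from
            ⟨D.X_le a.2, D.t_inv_X_of hv hN a a.2⟩)] at hs
        rw [h] at hb
        obtain ⟨b', hb', hbb⟩ := hb
        rw [show b' = b from Subtype.ext hbb] at hb'
        have e : D.prodEquiv (a, b) =
            Subgroup.inclusion D.X_le a * Subgroup.inclusion D.W_le b := Subtype.ext rfl
        rw [e, map_mul, show R.wl (Subgroup.inclusion D.X_le a) = 1 from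
          DFunLike.congr_fun R.wl_isW.1 a, one_mul]
        exact hb'
    rw [invSum_eq, if_neg hr, hI]
    by_cases hK : D.W ⊓ D.invSet v = kerW R.wl
    · rw [if_pos (hiff.2 hK), if_pos ⟨hN, hK⟩]; norm_num
    · rw [if_neg fun h => hK (hiff.1 h), if_neg fun h => hK h.2, sub_zero]
  · rw [invSum_outside _ _ hN, if_neg fun h => hN h.1]

open scoped Classical in
theorem inner_ind_pairFun [Fintype D.S] (a b : D.Lin) {c : G} (hc : orderOf c = 2) :
    Cfsg.classInner (D.ind a b) (pairFun c) =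
      (1331 : ℂ)⁻¹ * ((Nat.card (centralizer ({c} : Set G)) : ℂ) ^ 2 *
        ∑ v ∈ Finset.univ.filter (fun v : G => IsConj c v), invSum a b v) := by
  rw [ind, frobenius_reciprocity _ _ _ (pairFun_isClass c), classInner_def, D.card_S,
    show ((11 ^ 3 : ℕ) : ℂ) = 1331 by norm_num]
  congr 1
  simp only [invSum]
  rw [Finset.sum_comm, Finset.mul_sum]
  refine Finset.sum_congr rfl fun s _ => ?_
  simp only [pairFun, pairCount_S hc s.2, Nat.cast_mul, Nat.cast_pow, map_mul, map_pow,
    map_natCast]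
  rw [← Finset.sum_filter, Finset.filter_filter, Finset.sum_const, nsmul_eq_mul]
  ring

namespace Fam

variable (F : Fam D)

theorem inner_expand (c : G) :
    Cfsg.classInner (D.ind (F.R.free 0) F.R.wl) (pairFun c) = (Nat.card G : ℂ) *
      (F.e * ((F.μ 0 : G → ℂ) c * (F.μ 0 : G → ℂ) c / F.d) +
        F.sx * ((F.X : G → ℂ) c * (F.X : G → ℂ) c / F.x) +
        F.sy * ((F.Y : G → ℂ) c * (F.Y : G → ℂ) c / F.y)) := by
  have h : D.ind (F.R.free 0) F.R.wl =
      (F.e : ℂ) • (F.μ 0 : G → ℂ) + (F.sx : ℂ) • (F.X : G → ℂ) + (F.sy : ℂ) • (F.Y : G → ℂ) := by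
    funext g
    simp [F.expand 0 g]
  rw [h, classInner_add_left, classInner_add_left, classInner_smul_left, classInner_smul_left,
    classInner_smul_left, inner_pairFun, inner_pairFun, inner_pairFun, F.deg_μ, F.deg_X, F.deg_Y]
  ring

theorem ne_zero : (F.d : ℂ) ≠ 0 ∧ (F.x : ℂ) ≠ 0 ∧ (F.y : ℂ) ≠ 0 :=
  ⟨F.deg_μ 0 ▸ irr_apply_one_ne_zero (F.μ 0).2, F.deg_X ▸ irr_apply_one_ne_zero F.X.2,
    F.deg_Y ▸ irr_apply_one_ne_zero F.Y.2⟩

theorem quad_z {a b c : ℤ} (ha : (F.μ 0 : G → ℂ) z = a) (hb : (F.X : G → ℂ) z = b)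
    (hc : (F.Y : G → ℂ) z = c) :
    F.e * a ^ 2 * F.x * F.y + F.sx * b ^ 2 * F.d * F.y + F.sy * c ^ 2 * F.d * F.x = 0 := by
  classical
  have := Fintype.ofFinite D.S
  have h := F.inner_expand z
  rw [inner_ind_pairFun _ _ D.ord_z, Finset.sum_eq_zero fun v hv =>
    invSum_z F.R 0 (Finset.mem_filter.1 hv).2, mul_zero, mul_zero, ha, hb, hc] at h
  obtain ⟨hd, hx, hy⟩ := F.ne_zero
  have h' := (mul_eq_zero.1 h.symm).resolve_left natCard_ne_zero
  field_simp at h'
  rw [← Int.cast_inj (α := ℂ)]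
  push_cast
  linear_combination h'

theorem quad_t {a b c : ℤ} (ha : (F.μ 0 : G → ℂ) t = a) (hb : (F.X : G → ℂ) t = b)
    (hc : (F.Y : G → ℂ) t = c) :
    (jOrder : ℤ) * (F.e * a ^ 2 * F.x * F.y + F.sx * b ^ 2 * F.d * F.y +
      F.sy * c ^ 2 * F.d * F.x) = -11 * (tOrder : ℤ) ^ 2 * F.d * F.x * F.y := by
  classical
  have := Fintype.ofFinite D.S
  have h := F.inner_expand t
  have hsum : ∑ v ∈ Finset.univ.filter (fun v : G => IsConj t v),
      invSum (F.R.free 0) F.R.wl v = -14641 := by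
    rw [Finset.sum_congr rfl fun v hv => invSum_t F.R 0 (Finset.mem_filter.1 hv).2,
      ← Finset.sum_filter, Finset.filter_filter, Finset.sum_const, ← Fintype.card_subtype,
      ← Nat.card_eq_fintype_card, D.count_line (kerW F.R.wl) (Subgroup.map_subtype_le _)
        (card_kerW F.R.wl_isW.2)]
    norm_num
  rw [inner_ind_pairFun _ _ D.ord_t, hsum, D.card_ct, D.card_G, ha, hb, hc] at h
  obtain ⟨hd, hx, hy⟩ := F.ne_zero
  generalize jOrder = n at h ⊢
  generalize tOrder = m at h ⊢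
  field_simp at h
  rw [← Int.cast_inj (α := ℂ)]
  push_cast
  ring_nf at h ⊢
  linear_combination (-(1 : ℂ) / 1331) * h

end Fam

end AbData

end CfsgLib.J4Type.Eleven
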