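import Cfsg.Agent.Lib.J4Type.Eleven.CharDual

/-!
The stabilisers and orbits of the linear characters of the abelian Sylow subgroup.
-/

set_option autoImplicit false
set_option linter.unusedSectionVars false

universe u

namespace CfsgLib.J4Type.Eleven

open Subgroup

variable {G : Type u} [Group G] [Finite G] {z t : G}

namespace AbData

variable (D : AbData z t)

theorem conj_mem_X {x : G} (hx : x ∈ D.N) {s : G} (hs : s ∈ D.X) : x⁻¹ * s * x ∈ D.X := by
  have h := (mem_normalizer_iff.1 (inv_mem (D.norm_X hx)) s).1 hs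
  rwa [inv_inv] at h

theorem conj_mem_W {x : G} (hx : x ∈ D.N) {s : G} (hs : s ∈ D.W) : x⁻¹ * s * x ∈ D.W := by
  have h := (mem_normalizer_iff.1 (inv_mem (D.norm_W hx)) s).1 hs
  rwa [inv_inv] at h

theorem resX_act (x : D.N) (l : D.Lin) (a : D.X) :
    D.resX (D.act x l) a = D.resX l ⟨(x : G)⁻¹ * a * x, D.conj_mem_X x.2 a.2⟩ := rfl

theorem resW_act (x : D.N) (l : D.Lin) (a : D.W) :
    D.resW (D.act x l) a = D.resW l ⟨(x : G)⁻¹ * a * x, D.conj_mem_W x.2 a.2⟩ := rfl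

theorem resX_act_one (x : D.N) {l : D.Lin} (h : D.resX l = 1) : D.resX (D.act x l) = 1 :=
  MonoidHom.ext fun a => by rw [resX_act, h]; rfl

theorem resW_act_one (x : D.N) {l : D.Lin} (h : D.resW l = 1) : D.resW (D.act x l) = 1 :=
  MonoidHom.ext fun a => by rw [resW_act, h]; rfl

theorem resX_act_iff (x : D.N) (l : D.Lin) : D.resX (D.act x l) = 1 ↔ D.resX l = 1 :=
  ⟨fun h => by simpa [D.act_inv_act] using D.resX_act_one x⁻¹ h, D.resX_act_one x⟩

theorem resW_act_iff (x : D.N) (l : D.Lin) : D.resW (D.act x l) = 1 ↔ D.resW l = 1 :=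
  ⟨fun h => by simpa [D.act_inv_act] using D.resW_act_one x⁻¹ h, D.resW_act_one x⟩

theorem S_le_stab (l : D.Lin) : D.S.subgroupOf D.N ≤ D.stab l := fun x hx => by
  rw [mem_subgroupOf] at hx
  exact MonoidHom.ext fun s => congrArg l (Subtype.ext (by
    show (x : G)⁻¹ * s * x = s
    rw [mul_assoc, D.comm s s.2 _ hx, inv_mul_cancel_left]))

theorem card_S_in_N : Nat.card (D.S.subgroupOf D.N) = 1331 := by
  rw [Nat.card_congr (subgroupOfEquivOfLe D.S_le_N).toEquiv, D.card_S]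
  norm_num

/-- A character fixed by an element without fixed points on a part is trivial there. -/
theorem exists_fixed {x : D.N} {l : D.Lin} (hx : D.act x l = l) {U : Subgroup G} (hU : U ≤ D.S)
    (hn : ∀ u ∈ U, (x : G)⁻¹ * u * x ∈ U) (hne : ∃ u, ∃ h : u ∈ U, l ⟨u, hU h⟩ ≠ 1) :
    ∃ u ∈ U, u ≠ 1 ∧ (x : G) * u = u * x := by
  by_contra hcon
  push Not at hcon
  let φ : U → U := fun u => ⟨(u : G)⁻¹ * ((x : G)⁻¹ * u * x), mul_mem (inv_mem u.2) (hn u u.2)⟩
  have hinj : Function.Injective φ := by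
    intro a b e
    have e' : (a : G)⁻¹ * ((x : G)⁻¹ * a * x) = (b : G)⁻¹ * ((x : G)⁻¹ * b * x) :=
      congrArg Subtype.val e
    by_contra hab
    refine hcon ((a : G) * (b : G)⁻¹) (mul_mem a.2 (inv_mem b.2))
      (fun h => hab (Subtype.ext (mul_inv_eq_one.1 h))) ?_
    have h1 : (a : G) * (b : G)⁻¹ = ((x : G)⁻¹ * a * x) * ((x : G)⁻¹ * b * x)⁻¹ := by
      have h2 : (x : G)⁻¹ * a * x = (a : G) * ((b : G)⁻¹ * ((x : G)⁻¹ * b * x)) := by
        rw [← e', mul_inv_cancel_left]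
      rw [h2]; group
    calc (x : G) * ((a : G) * (b : G)⁻¹)
        = x * (((x : G)⁻¹ * a * x) * ((x : G)⁻¹ * b * x)⁻¹) := by rw [← h1]
      _ = (a : G) * (b : G)⁻¹ * x := by group
  obtain ⟨u, hu, hlu⟩ := hne
  obtain ⟨v, hv⟩ := (Finite.injective_iff_surjective.1 hinj) ⟨u, hu⟩
  apply hlu
  have e : (⟨u, hU hu⟩ : D.S) =
      (⟨v, hU v.2⟩ : D.S)⁻¹ * ⟨(x : G)⁻¹ * v * x, D.conj_mem_S x.2 (hU v.2)⟩ :=
    Subtype.ext (congrArg Subtype.val hv).symm
  rw [e, map_mul, map_inv, show l ⟨(x : G)⁻¹ * v * x, D.conj_mem_S x.2 (hU v.2)⟩ = l ⟨v, hU v.2⟩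
    from DFunLike.congr_fun hx ⟨v, hU v.2⟩, inv_mul_cancel]

theorem stab_free {l : D.Lin} (h : D.IsFree l) : Nat.card (D.stab l) = 1331 := by
  have e : D.stab l = D.S.subgroupOf D.N := by
    refine le_antisymm (fun x hx => ?_) (D.S_le_stab l)
    rw [mem_subgroupOf]
    obtain ⟨a, ha⟩ := DFunLike.ne_iff.1 h.1
    obtain ⟨b, hb⟩ := DFunLike.ne_iff.1 h.2
    obtain ⟨u, hu, hu1, hxu⟩ := D.exists_fixed hx D.X_le (fun _ => D.conj_mem_X x.2)
      ⟨a, a.2, ha⟩
    obtain ⟨v, hv, hv1, hxv⟩ := D.exists_fixed hx D.W_le (fun _ => D.conj_mem_W x.2)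
      ⟨b, b.2, hb⟩
    have hX : u * v ∉ D.X := fun h' => hv1 (by
      have : v ∈ D.X ⊓ D.W := ⟨by simpa using mul_mem (inv_mem hu) h', hv⟩
      rwa [D.disjoint, mem_bot] at this)
    have hW : u * v ∉ D.W := fun h' => hu1 (by
      have : u ∈ D.X ⊓ D.W := ⟨hu, by simpa using mul_mem h' (inv_mem hv)⟩
      rwa [D.disjoint, mem_bot] at this)
    refine D.cent_free _ (mul_mem (D.X_le hu) (D.W_le hv)) hX hW ?_
    rw [mem_centralizer_singleton_iff, ← mul_assoc, hxu, mul_assoc, hxv, mul_assoc]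
  rw [e, card_S_in_N]

theorem stab_X {l : D.Lin} (h : D.IsX l) : Nat.card (D.stab l) = 31944 := by
  obtain ⟨a, ha⟩ := DFunLike.ne_iff.1 h.2
  haveI : Fact (Nat.Prime 11) := ⟨by norm_num⟩
  have ha1 : (a : G) ≠ 1 := fun e => ha (by
    rw [show a = 1 from Subtype.ext e, map_one, map_one])
  have hker : Function.Injective (D.resX l) := by
    rw [← MonoidHom.ker_eq_bot_iff]
    refine ((D.resX l).ker.eq_bot_or_eq_top_of_prime_card (hp := D.card_X ▸ ⟨by norm_num⟩)).resolve_right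
      fun e => h.2 (MonoidHom.ker_eq_top_iff.1 e)
  have hz : zpowers a = ⊤ := by
    refine ((zpowers a).eq_bot_or_eq_top_of_prime_card (hp := D.card_X ▸ ⟨by norm_num⟩)).resolve_left
      fun e => ha1 ?_
    rw [zpowers_eq_bot] at e
    exact congrArg Subtype.val e
  have hle : centralizer ({(a : G)} : Set G) ≤ D.N := D.cent_le _ (D.X_le a.2) ha1
  have e : D.stab l = (centralizer ({(a : G)} : Set G)).subgroupOf D.N := by
    ext x
    rw [mem_subgroupOf, mem_centralizer_singleton_iff, mem_stab]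
    constructor
    · intro hx
      have h1 := hker (show D.resX l ⟨(x : G)⁻¹ * a * x, D.conj_mem_X x.2 a.2⟩ = D.resX l a by
        rw [← resX_act, hx])
      have h2 : (x : G)⁻¹ * a * x = a := congrArg Subtype.val h1
      calc (x : G) * a = x * ((x : G)⁻¹ * a * x) := by rw [h2]
        _ = a * x := by group
    · intro hx
      refine D.lin_ext (MonoidHom.ext fun b => ?_) ((D.resW_act_one x h.1).trans h.1.symm)
      rw [resX_act]
      refine congrArg (D.resX l) (Subtype.ext ?_)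
      obtain ⟨k, hk⟩ := mem_zpowers_iff.1 (hz ▸ mem_top b)
      have hc : Commute (x : G) b := by
        rw [show (b : G) = (a : G) ^ k by rw [← hk]; rfl]
        exact (show Commute (x : G) a from hx).zpow_right k
      show (x : G)⁻¹ * b * x = b
      rw [mul_assoc, ← hc.eq, inv_mul_cancel_left]
  rw [e, Nat.card_congr (subgroupOfEquivOfLe hle).toEquiv, D.card_cent_X _ a.2 ha1]

theorem mul_mem_of_cent {w : G} (hw : w ∈ D.W) (hw1 : w ≠ 1) {a b : G} (ha : a * w = w * a)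
    (hb : b * w = w * b) (ha' : a ∉ D.S) (hb' : b ∉ D.S) : a * b ∈ D.S := by
  have hS : D.S ≤ centralizer ({w} : Set G) := fun s hs =>
    mem_centralizer_singleton_iff.2 (D.comm s hs w (D.W_le hw))
  have hi : (D.S.subgroupOf (centralizer ({w} : Set G))).index = 2 := by
    have h := (D.S.subgroupOf (centralizer ({w} : Set G))).card_mul_index
    rw [Nat.card_congr (subgroupOfEquivOfLe hS).toEquiv, D.card_S, D.card_cent_W w hw hw1] at h
    norm_num at h ⊢
    omega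
  have := (Subgroup.mul_mem_iff_of_index_two hi (a := ⟨a, mem_centralizer_singleton_iff.2 ha⟩)
    (b := ⟨b, mem_centralizer_singleton_iff.2 hb⟩)).2
  simp only [mem_subgroupOf] at this
  exact this ⟨fun h => absurd h ha', fun h => absurd h hb'⟩

theorem sq_mem_of_stab {x : D.N} {l : D.Lin} (hx : D.act x l = l) (hl : D.resW l ≠ 1)
    (hxS : (x : G) ∉ D.S) : (x : G) * x ∈ D.S := by
  obtain ⟨b, hb⟩ := DFunLike.ne_iff.1 hl
  obtain ⟨v, hv, hv1, hxv⟩ := D.exists_fixed hx D.W_le (fun _ => D.conj_mem_W x.2) ⟨b, b.2, hb⟩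
  exact D.mul_mem_of_cent hv hv1 hxv hxv hxS hxS

theorem stab_W_two {l : D.Lin} (hl : D.resW l ≠ 1) {m n : D.N} (hm : D.act m l = l)
    (hn : D.act n l = l) (hmS : (m : G) ∉ D.S) (hnS : (n : G) ∉ D.S) : (m : G)⁻¹ * n ∈ D.S := by
  by_contra hc
  obtain ⟨b, hb⟩ := DFunLike.ne_iff.1 hl
  have fix : ∀ x : D.N, D.act x l = l → ∃ w ∈ D.W, w ≠ 1 ∧ (x : G) * w = w * x := fun x hx =>
    D.exists_fixed hx D.W_le (fun _ => D.conj_mem_W x.2) ⟨b, b.2, hb⟩
  obtain ⟨w, hw, hw1, hmw⟩ := fix m hm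
  obtain ⟨w', hw', hw'1, hnw'⟩ := fix n hn
  have hk : D.act (m⁻¹ * n) l = l := by
    rw [D.act_mul, hn]
    conv_lhs => rw [← hm]
    exact D.act_inv_act m l
  obtain ⟨w'', hw'', hw''1, hkw⟩ := fix _ hk
  replace hkw : (m : G)⁻¹ * n * w'' = w'' * ((m : G)⁻¹ * n) := hkw
  have sep : ∀ v ∈ D.W, (m : G) * v = v * m → (n : G) * v = v * n → v = 1 := by
    intro v hv h1 h2
    by_contra hv1
    refine hc (D.mul_mem_of_cent hv hv1 ?_ h2 (fun h => hmS ?_) hnS)
    · exact (show Commute (m : G) v from h1).inv_left.eq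
    · simpa using inv_mem h
  have swap : ∀ (m n : D.N) (w : G), w ∈ D.W → (m : G) * w = w * m →
      (m : G) * m ∈ D.S → (n : G) * n ∈ D.S → ((m : G)⁻¹ * n) * ((m : G)⁻¹ * n) ∈ D.S →
      (∀ v ∈ D.W, (m : G) * v = v * m → (n : G) * v = v * n → v = 1) →
      (n : G) * w * (n : G)⁻¹ = w⁻¹ := by
    intro m n w hw hmw hm2 hn2 hk2 sep
    set u := (n : G) * w * (n : G)⁻¹ with hu
    have huW : u ∈ D.W := (mem_normalizer_iff.1 (D.norm_W n.2) w).1 hw
    have fixS : ∀ s ∈ D.S, ∀ v ∈ D.W, s * v * s⁻¹ = v := fun s hs v hv => by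
      rw [D.comm s hs v (D.W_le hv), mul_inv_cancel_right]
    have hmwi : (m : G)⁻¹ * w * m = w := by rw [mul_assoc, ← hmw, inv_mul_cancel_left]
    -- conjugation by `m ⁻¹` on `u` is trivial
    set k := (m : G)⁻¹ * n * ((m : G)⁻¹ * n) with hkd
    have hnu : (n : G) * u * (n : G)⁻¹ = w := by
      rw [hu, show (n : G) * (n * w * (n : G)⁻¹) * (n : G)⁻¹ = (n * n) * w * (n * n : G)⁻¹ by
        group, fixS _ hn2 w hw]
    have hmu : (m : G) * u = u * m := by
      have e1 : k * w * k⁻¹ = w := fixS _ hk2 w hw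
      have e2 : (m : G) * m * w * ((m : G) * m)⁻¹ = w := fixS _ hm2 w hw
      have e3 : (n : G)⁻¹ * w * n = u := by
        have : (n : G)⁻¹ * w * n = (n : G)⁻¹ * (n * u * (n : G)⁻¹) * n := by rw [hnu]
        rw [this]; group
      have e4 : (n : G) * ((m : G)⁻¹ * u * m) * (n : G)⁻¹ = w := by
        have : (m : G) * w * (m : G)⁻¹ = w := by rw [hmw, mul_inv_cancel_right]
        calc (n : G) * ((m : G)⁻¹ * u * m) * (n : G)⁻¹
            = (m : G) * (k * w * k⁻¹) * (m : G)⁻¹ := by rw [hkd, hu]; group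
          _ = (m : G) * w * (m : G)⁻¹ := by rw [e1]
          _ = w := this
      have e5 : (m : G)⁻¹ * u * m = u := by
        conv_rhs => rw [← e3, ← e4]
        group
      calc (m : G) * u = m * ((m : G)⁻¹ * u * m) := by rw [e5]
        _ = u * m := by group
    have h1 : w * u = 1 := by
      refine sep _ (mul_mem hw huW) ?_ ?_
      · exact (Commute.mul_right (show Commute (m : G) w from hmw) (show Commute (m : G) u from hmu)).eq
      · calc (n : G) * (w * u) = (n * w * (n : G)⁻¹) * (n * u * (n : G)⁻¹) * n := by group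
          _ = u * w * n := by rw [hnu, ← hu]
          _ = w * u * n := by rw [D.comm u (D.W_le huW) w (D.W_le hw)]
    exact eq_inv_of_mul_eq_one_right h1
  have hm2 := D.sq_mem_of_stab hm hl hmS
  have hn2 := D.sq_mem_of_stab hn hl hnS
  have hk2 : (m : G)⁻¹ * n * ((m : G)⁻¹ * n) ∈ D.S := D.sq_mem_of_stab hk hl hc
  have i1 := swap m n w hw hmw hm2 hn2 hk2 sep
  have hk2' : (n : G)⁻¹ * m * ((n : G)⁻¹ * m) ∈ D.S := by
    rw [show (n : G)⁻¹ * m * ((n : G)⁻¹ * m) = ((m : G)⁻¹ * n * ((m : G)⁻¹ * n))⁻¹ by group]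
    exact inv_mem hk2
  have i2 := swap n m w' hw' hnw' hn2 hm2 hk2' fun v hv a b => sep v hv b a
  set k := (m : G)⁻¹ * n with hk_def
  have j1 : k * w * k⁻¹ = w⁻¹ := by
    rw [hk_def, show (m : G)⁻¹ * n * w * ((m : G)⁻¹ * n)⁻¹ = (m : G)⁻¹ * (n * w * (n : G)⁻¹) * m
      by group, i1, mul_assoc, (show Commute (m : G) w from hmw).inv_right.eq.symm,
      inv_mul_cancel_left]
  have j2 : k * w' * k⁻¹ = w'⁻¹ := by
    rw [hk_def, show (m : G)⁻¹ * n * w' * ((m : G)⁻¹ * n)⁻¹ = (m : G)⁻¹ * (n * w' * (n : G)⁻¹) * m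
      by group, hnw', mul_inv_cancel_right]
    have : (m : G)⁻¹ * (m * w' * (m : G)⁻¹) * m = w' := by group
    rw [i2] at this
    calc (m : G)⁻¹ * w' * m = ((m : G)⁻¹ * w'⁻¹ * m)⁻¹ := by group
      _ = w'⁻¹ := by rw [this]
  let M : Subgroup G :=
    { carrier := {v | v ∈ D.W ∧ k * v * k⁻¹ = v⁻¹}
      one_mem' := ⟨one_mem _, by simp⟩
      mul_mem' := fun {a b} ha hb => ⟨mul_mem ha.1 hb.1, by
        rw [show k * (a * b) * k⁻¹ = (k * a * k⁻¹) * (k * b * k⁻¹) by group, ha.2, hb.2,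
          ← mul_inv_rev, D.comm b (D.W_le hb.1) a (D.W_le ha.1)]⟩
      inv_mem' := fun {a} ha => ⟨inv_mem ha.1, by
        rw [show k * a⁻¹ * k⁻¹ = (k * a * k⁻¹)⁻¹ by group, ha.2]⟩ }
  have hMW : M = D.W := by
    refine eq_of_le_of_card_ge (fun v hv => hv.1) ?_
    rw [D.card_W]
    haveI : Fact (Nat.Prime 11) := ⟨by norm_num⟩
    have hd : Nat.card M ∣ 11 ^ 2 := D.card_W ▸ card_dvd_of_le fun v hv => hv.1
    obtain ⟨i, hi, hci⟩ := (Nat.dvd_prime_pow (by norm_num : Nat.Prime 11)).1 hd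
    rw [hci]
    refine Nat.pow_le_pow_right (by norm_num) ?_
    by_contra hlt
    have hwo : orderOf w = 11 := orderOf_eq_prime (D.pow_eleven _ (D.W_le hw)) hw1
    have hzM : zpowers w = M := by
      refine eq_of_le_of_card_ge (zpowers_le.2 ⟨hw, j1⟩) ?_
      rw [Nat.card_zpowers, hwo, hci]
      calc 11 ^ i ≤ 11 ^ 1 := Nat.pow_le_pow_right (by norm_num) (by omega)
        _ = 11 := pow_one _
    have hw'M : w' ∈ M := ⟨hw', j2⟩
    rw [← hzM] at hw'M
    obtain ⟨j, hj⟩ := mem_zpowers_iff.1 hw'M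
    refine hw'1 (sep w' hw' ?_ hnw')
    rw [← hj]
    exact ((show Commute (m : G) w from hmw).zpow_right j).eq
  have hw''M : w'' ∈ M := hMW.symm ▸ hw''
  have h := hw''M.2
  rw [hkw, mul_inv_cancel_right] at h
  exact hw''1 (by
    have h2 : w'' * w'' = 1 := by nth_rewrite 2 [h]; exact mul_inv_cancel _
    have h11 := D.pow_eleven _ (D.W_le hw'')
    rwa [pow_succ, show (10 : ℕ) = 2 * 5 from rfl, pow_mul, pow_two, h2, one_pow, one_mul] at h11)

theorem exists_W_fixed : ∃ l : D.Lin, D.IsW l ∧ D.act ⟨t, D.t_norm⟩ l = l := by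
  obtain ⟨w0, hw0, hw01, htw⟩ := D.t_fix
  haveI := D.comm_W
  let ψ : D.W →* D.W := MonoidHom.mk'
    (fun u => u⁻¹ * ⟨t⁻¹ * u * t, D.conj_mem_W D.t_norm u.2⟩) fun a b => Subtype.ext (by
      simp only [Subgroup.coe_mul, Subgroup.coe_inv, mul_inv_rev]
      have hc : ∀ p ∈ D.W, ∀ q ∈ D.W, p * q = q * p := fun p hp q hq =>
        D.comm p (D.W_le hp) q (D.W_le hq)
      have hca := D.conj_mem_W D.t_norm a.2
      have hcb := D.conj_mem_W D.t_norm b.2
      calc (b : G)⁻¹ * (a : G)⁻¹ * (t⁻¹ * (a * b) * t)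
          = (b : G)⁻¹ * ((a : G)⁻¹ * (t⁻¹ * a * t)) * (t⁻¹ * b * t) := by group
        _ = (a : G)⁻¹ * (t⁻¹ * a * t) * ((b : G)⁻¹ * (t⁻¹ * b * t)) := by
          rw [hc _ (inv_mem b.2) _ (mul_mem (inv_mem a.2) hca)]; group)
  have hI : ψ.range ≠ ⊤ := by
    intro e
    have hsurj : Function.Surjective ψ := MonoidHom.range_eq_top.1 e
    have hinj := Finite.injective_iff_surjective.2 hsurj
    refine hw01 (congrArg Subtype.val (hinj (a₁ := ⟨w0, hw0⟩) (a₂ := 1) ?_))
    rw [map_one]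
    refine Subtype.ext ?_
    show w0⁻¹ * (t⁻¹ * w0 * t) = 1
    rw [mul_assoc t⁻¹, ← htw, inv_mul_cancel_left, inv_mul_cancel]
  obtain ⟨q, hq⟩ : ∃ q : D.W, q ∉ ψ.range := by
    by_contra hc
    push Not at hc
    exact hI (eq_top_iff.2 fun q _ => hc q)
  obtain ⟨g0, hg0⟩ := CfsgLib.Char.exists_linear_ne_one (G := D.W ⧸ ψ.range)
    (fun a b => by
      induction a using QuotientGroup.induction_on
      induction b using QuotientGroup.induction_on
      rw [← QuotientGroup.mk_mul, ← QuotientGroup.mk_mul]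
      exact congrArg _ (D.comm_W.is_comm.comm _ _))
    (g := QuotientGroup.mk' ψ.range q) (fun h => hq ((QuotientGroup.eq_one_iff q).1 h))
  obtain ⟨l, h1, h2⟩ := D.exists_lin 1 (g0.comp (QuotientGroup.mk' ψ.range))
  refine ⟨l, ⟨h1, fun h => hg0 ?_⟩, D.lin_ext ((D.resX_act_one _ h1).trans h1.symm) ?_⟩
  · have := DFunLike.congr_fun h q
    rw [h2] at this
    exact this
  · refine MonoidHom.ext fun u => ?_
    rw [resW_act, h2]
    show g0 (QuotientGroup.mk' ψ.range _) = g0 (QuotientGroup.mk' ψ.range u)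
    refine congrArg g0 (QuotientGroup.eq.2 ?_).symm
    exact ⟨u, rfl⟩

theorem stab_W_fixed {l : D.Lin} (hl : D.IsW l) (ht : D.act ⟨t, D.t_norm⟩ l = l) :
    Nat.card (D.stab l) = 2662 := by
  have htS : t ∉ D.S := fun h => by
    have h1 := Subgroup.orderOf_dvd_natCard D.S h
    rw [D.ord_t, D.card_S] at h1
    norm_num at h1
  set T := D.stab l
  have hi : ((D.S.subgroupOf D.N).subgroupOf T).index = 2 := by
    rw [Subgroup.index_eq_two_iff]
    refine ⟨⟨⟨t, D.t_norm⟩, ht⟩, fun x => ?_⟩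
    simp only [mem_subgroupOf, Subgroup.coe_mul]
    by_cases hx : ((x : D.N) : G) ∈ D.S
    · refine Or.inr ⟨hx, fun h => htS ?_⟩
      simpa using mul_mem (inv_mem hx) h
    · refine Or.inl ⟨?_, hx⟩
      have h1 := D.stab_W_two hl.2 (m := (x : D.N)⁻¹) (n := ⟨t, D.t_norm⟩) ?_ ht
        (fun h => hx (by simpa using inv_mem h)) htS
      · simpa using h1
      · conv_lhs => rw [← show D.act x l = l from x.2]
        exact D.act_inv_act _ l
  have h := ((D.S.subgroupOf D.N).subgroupOf T).card_mul_index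
  rw [hi, Nat.card_congr (subgroupOfEquivOfLe (D.S_le_stab l)).toEquiv, card_S_in_N] at h
  rw [← h]

theorem orbit_type {l m : D.Lin} (h : m ∈ D.orbit l) :
    (D.IsX l → D.IsX m) ∧ (D.IsW l → D.IsW m) ∧ (D.IsFree l → D.IsFree m) := by
  obtain ⟨x, rfl⟩ := D.mem_orbit.1 h
  simp only [IsX, IsW, IsFree, ne_eq, resX_act_iff, resW_act_iff]
  exact ⟨id, id, id⟩

theorem orbit_eq_of_mem {l m : D.Lin} (h : m ∈ D.orbit l) : D.orbit m = D.orbit l := by
  obtain ⟨x, rfl⟩ := D.mem_orbit.1 h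
  ext n
  rw [mem_orbit, mem_orbit]
  constructor
  · rintro ⟨y, rfl⟩; exact ⟨y * x, D.act_mul y x l⟩
  · rintro ⟨y, rfl⟩; exact ⟨y * x⁻¹, by rw [D.act_mul, D.act_inv_act]⟩

theorem self_mem_orbit (l : D.Lin) : l ∈ D.orbit l := D.mem_orbit.2 ⟨1, D.act_one l⟩

open scoped Classical in
theorem orbit_X {l : D.Lin} (h : D.IsX l) :
    D.orbit l = Finset.univ.filter fun m => D.IsX m := by
  refine Finset.eq_of_subset_of_card_le
    (fun m hm => Finset.mem_filter.2 ⟨Finset.mem_univ _, (D.orbit_type hm).1 h⟩) ?_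
  have h1 := D.card_orbit_mul l
  rw [D.stab_X h] at h1
  rw [← Fintype.card_subtype, ← Nat.card_eq_fintype_card, D.card_types.1]
  omega

open scoped Classical in
theorem orbit_W_eq {l : D.Lin} (h : D.IsW l) :
    D.orbit l = Finset.univ.filter (fun m => D.IsW m) ∧ Nat.card (D.stab l) = 2662 := by
  obtain ⟨l0, h0, ht0⟩ := D.exists_W_fixed
  have hc : (Finset.univ.filter fun m => D.IsW m).card = 120 := by
    rw [← Fintype.card_subtype, ← Nat.card_eq_fintype_card, D.card_types.2.1]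
  have ho : D.orbit l0 = Finset.univ.filter fun m => D.IsW m := by
    refine Finset.eq_of_subset_of_card_le
      (fun m hm => Finset.mem_filter.2 ⟨Finset.mem_univ _, (D.orbit_type hm).2.1 h0⟩) ?_
    have h1 := D.card_orbit_mul l0
    rw [D.stab_W_fixed h0 ht0] at h1
    rw [hc]
    omega
  have hl : l ∈ D.orbit l0 := ho ▸ Finset.mem_filter.2 ⟨Finset.mem_univ _, h⟩
  have e := D.orbit_eq_of_mem hl
  refine ⟨e.trans ho, ?_⟩
  have h1 := D.card_orbit_mul l
  rw [e, ho, hc] at h1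
  omega

theorem card_orbit_free {l : D.Lin} (h : D.IsFree l) : (D.orbit l).card = 240 := by
  have h1 := D.card_orbit_mul l
  rw [D.stab_free h] at h1
  omega

/-- Five representatives of the free orbits and their covering. -/
theorem exists_free_reps : ∃ r : Fin 5 → D.Lin, (∀ i, D.IsFree (r i)) ∧
    (∀ i j, r j ∈ D.orbit (r i) → i = j) ∧ ∀ l, D.IsFree l → ∃ i, l ∈ D.orbit (r i) := by
  classical
  set F := Finset.univ.filter (fun l => D.IsFree l) with hF
  have hFc : F.card = 1200 := by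
    rw [hF, ← Fintype.card_subtype, ← Nat.card_eq_fintype_card, D.card_types.2.2]
  let orbs := F.image D.orbit
  have hmem : ∀ O ∈ orbs, ∃ l, D.IsFree l ∧ O = D.orbit l := fun O hO => by
    obtain ⟨l, hl, rfl⟩ := Finset.mem_image.1 hO
    exact ⟨l, (Finset.mem_filter.1 hl).2, rfl⟩
  have hfib : ∀ O ∈ orbs, (F.filter fun l => D.orbit l = O).card = 240 := by
    intro O hO
    obtain ⟨l, hl, rfl⟩ := hmem O hO
    have e : (F.filter fun m => D.orbit m = D.orbit l) = D.orbit l := by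
      ext m
      simp only [hF, Finset.mem_filter, Finset.mem_univ, true_and]
      exact ⟨fun h => h.2 ▸ D.self_mem_orbit m,
        fun h => ⟨(D.orbit_type h).2.2 hl, D.orbit_eq_of_mem h⟩⟩
    rw [e, D.card_orbit_free hl]
  have hsum := Finset.card_eq_sum_card_image D.orbit F
  rw [Finset.sum_congr rfl hfib, Finset.sum_const, smul_eq_mul, hFc] at hsum
  have h5 : orbs.card = 5 := by omega
  let e := (Finset.equivFinOfCardEq h5).symm
  choose r hr hre using fun i : Fin 5 => hmem (e i) (e i).2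
  refine ⟨r, hr, fun i j h => ?_, fun l hl => ?_⟩
  · have := D.orbit_eq_of_mem h
    rw [← hre, ← hre] at this
    exact (e.injective (Subtype.ext this)).symm
  · have hl' : D.orbit l ∈ orbs :=
      Finset.mem_image_of_mem _ (Finset.mem_filter.2 ⟨Finset.mem_univ _, hl⟩)
    obtain ⟨i, hi⟩ := e.surjective ⟨_, hl'⟩
    refine ⟨i, ?_⟩
    rw [← hre i, hi]
    exact D.self_mem_orbit l

end AbData

end CfsgLib.J4Type.Eleven
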